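import Mathlib
import Cfsg.Agent.H3.ClassTwo

/-! Derived length of linear `p`-groups in coprime characteristic. -/

set_option autoImplicit false

namespace Cfsg.Agent.H73

open Subgroup Module
open scoped commutatorElement

universe u v

section
variable {K : Type*} [Field K] {V : Type v} [AddCommGroup V] [Module K V] [FiniteDimensional K V]

theorem sum_finrank_le {ι : Type*} [Fintype ι] {W : ι → Submodule K V} (h : iSupIndep W) :
    ∑ i, finrank K (W i) ≤ finrank K V := by
  classical
  rw [← finrank_directSum]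
  exact LinearMap.finrank_le_finrank_of_injective h.dfinsupp_lsum_injective

theorem eig_bound (f : End K V) (j : V →+ V) (hj : Function.Injective j) (σ : K → K)
    (hσ : Function.Surjective σ) (hc : ∀ r v, j (r • v) = σ r • j v) (τ : K → K)
    (hτ : ∀ c, ∀ v ∈ f.eigenspace c, j v ∈ f.eigenspace (τ c)) (c : K) (m : ℕ)
    (hm : Function.Injective fun i : Fin m => τ^[i] c) :
    m * finrank K (f.eigenspace c) ≤ finrank K V := by
  have h1 : ∀ c, finrank K (f.eigenspace c) ≤ finrank K (f.eigenspace (τ c)) := fun c => by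
    let j' : f.eigenspace c →+ f.eigenspace (τ c) :=
      { toFun := fun v => ⟨j v, hτ c v v.2⟩
        map_zero' := Subtype.ext (by simp)
        map_add' := fun a b => Subtype.ext (by simp) }
    have := rank_le_of_surjective_injective σ j' hσ
      (fun a b h => Subtype.ext (hj (congrArg Subtype.val h))) fun r v => Subtype.ext (hc r v)
    exact Cardinal.toNat_le_toNat this (rank_lt_aleph0 _ _)
  have h2 : ∀ i, finrank K (f.eigenspace c) ≤ finrank K (f.eigenspace (τ^[i] c)) := fun i => by
    induction i with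
    | zero => exact le_rfl
    | succ i ih => rw [Function.iterate_succ_apply']; exact ih.trans (h1 _)
  refine le_trans ?_ (sum_finrank_le (f.eigenspaces_iSupIndep.comp hm))
  calc m * finrank K (f.eigenspace c) = ∑ _i : Fin m, finrank K (f.eigenspace c) := by simp
    _ ≤ _ := Finset.sum_le_sum fun i _ => h2 i

theorem eq_one_of_eigen [IsAlgClosed K] {f g : End K V} {n : ℕ} (hn : (n : K) ≠ 0) (hf : f ^ n = 1)
    (h : ∀ c, c ^ n = 1 → ∀ v ∈ f.eigenspace c, g v = v) : g = 1 := by
  have h1 : f.IsSemisimple := End.isSemisimple_of_squarefree_aeval_eq_zero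
    (Polynomial.X_pow_sub_one_separable_iff.2 hn).squarefree (by simp [hf])
  have h2 : (⊤ : Submodule K V) ≤ LinearMap.eqLocus g 1 := by
    rw [← h1.iSup_eigenspace_eq_top]
    refine iSup_le fun c v hv => ?_
    by_cases hv0 : v = 0
    · rw [hv0]; exact Submodule.zero_mem _
    refine h c ?_ v hv
    have h3 := (End.HasEigenvector.pow_apply (f := f) ⟨hv, hv0⟩ n)
    rw [hf, End.one_apply] at h3
    have h4 : (c ^ n - 1) • v = 0 := by rw [sub_smul, ← h3, one_smul, sub_self]
    exact sub_eq_zero.1 ((smul_eq_zero.1 h4).resolve_right hv0)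
  exact LinearMap.ext fun v => h2 Submodule.mem_top

end

theorem derivedSeries_succ_le {G : Type*} [Group G] {H : Subgroup G} (h : commutator G ≤ H)
    (k : ℕ) : derivedSeries G (k + 1) ≤ (derivedSeries H k).map H.subtype := by
  induction k with
  | zero =>
    rw [derivedSeries_zero, ← MonoidHom.range_eq_map, range_subtype]; exact h
  | succ k ih =>
    rw [derivedSeries_succ, derivedSeries_succ H, map_commutator]
    exact commutator_mono ih ih

section
variable {K : Type*} [Field K] {P : Type u} [Group P] {V : Type v} [AddCommGroup V] [Module K V]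

theorem derived_le_ker_of_quot (ρ : Representation K P V) (k : ℕ)
    (h : derivedSeries (P ⧸ ρ.ker) k ≤ MonoidHom.ker (QuotientGroup.lift ρ.ker ρ le_rfl)) :
    derivedSeries P k ≤ ρ.ker := fun g hg =>
  h (map_derivedSeries_le_derivedSeries (QuotientGroup.mk' ρ.ker) k ⟨g, hg, rfl⟩)

theorem card_quot_lt [Finite P] {N : Subgroup P} (hN : N ≠ ⊥) : Nat.card (P ⧸ N) < Nat.card P := by
  rw [← index_eq_card, ← N.card_mul_index]
  exact lt_mul_of_one_lt_left (Nat.pos_of_ne_zero N.index_ne_zero_of_finite)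
    ((one_lt_card_iff_ne_bot N).2 hN)

theorem eigen_inv (ρ : Representation K P V) {a g : P} (h : g * a = a * g) (c : K) :
    End.eigenspace (ρ a) c ≤ (End.eigenspace (ρ a) c).comap (ρ g) := fun v hv => by
  rw [Submodule.mem_comap, End.mem_eigenspace_iff] at *
  rw [← End.mul_apply, ← map_mul, ← h, map_mul, End.mul_apply, hv, map_smul]

theorem rep_inj (ρ : Representation K P V) (g : P) : Function.Injective (ρ g) :=
  Function.LeftInverse.injective (g := ρ g⁻¹) fun v => by
    rw [← End.mul_apply, ← map_mul, inv_mul_cancel, map_one, End.one_apply]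

end

variable {K : Type*} [Field K] [IsAlgClosed K] {p : ℕ} [hp : Fact p.Prime]

theorem derived_le_ker (hK : (p : K) ≠ 0) (n : ℕ) : ∀ (P : Type u) [Group P] [Finite P]
    (V : Type v) [AddCommGroup V] [Module K V] [FiniteDimensional K V] (ρ : Representation K P V)
    (k : ℕ), finrank K V + Nat.card P = n → IsPGroup p P → finrank K V < p ^ (k + 1) →
    derivedSeries P (k + 1) ≤ ρ.ker := by
  induction n using Nat.strong_induction_on with
  | _ n ih =>
  intro P _ _ V _ _ _ ρ k hn hP hV
  by_cases hker : ρ.ker = ⊥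
  swap
  · exact derived_le_ker_of_quot ρ _ (ih _ (by have := card_quot_lt hker; omega) _ V _ k rfl
      (hP.to_quotient _) hV)
  have hcast : ∀ g : P, ((orderOf g : ℕ) : K) ≠ 0 := fun g => by
    obtain ⟨j, hj⟩ := IsPGroup.iff_orderOf.1 hP g
    rw [hj, Nat.cast_pow]; exact pow_ne_zero _ hK
  have hpow : ∀ g : P, ρ g ^ orderOf g = 1 := fun g => by
    rw [← map_pow, pow_orderOf_eq_one, map_one]
  by_cases hab : center P = ⊤
  · refine (derivedSeries_antitone P (Nat.le_add_left 1 k)).trans ?_
    rw [derivedSeries_one, commutator_def, commutator_le]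
    intro a _ b _
    rw [commutatorElement_eq_one_iff_mul_comm.2 (mem_center_iff.1 (hab.ge (mem_top b)) a)]
    exact one_mem _
  have : Nontrivial (P ⧸ center P) := QuotientGroup.nontrivial_iff.2 hab
  have := (hP.to_quotient (center P)).center_nontrivial
  obtain ⟨⟨a, ha⟩, ha1⟩ := exists_ne (1 : center (P ⧸ center P))
  obtain ⟨a, rfl⟩ := QuotientGroup.mk_surjective a
  have haZ : ∀ g : P, ⁅a, g⁆ ∈ center P := fun g => by
    rw [← QuotientGroup.eq_one_iff]
    change QuotientGroup.mk' _ _ = 1
    rw [map_commutatorElement, commutatorElement_eq_one_iff_mul_comm]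
    exact (mem_center_iff.1 ha _).symm
  obtain ⟨g, hg⟩ : ∃ g : P, ⁅a, g⁆ ≠ 1 := by
    by_contra! h
    exact ha1 (Subtype.ext ((QuotientGroup.eq_one_iff a).2 (mem_center_iff.2 fun g =>
      (commutatorElement_eq_one_iff_mul_comm.1 (h g)).symm)))
  obtain ⟨z, hz⟩ : ∃ z, z = ⁅a, g⁆ := ⟨_, rfl⟩
  rw [← hz] at hg
  have hzZ : z ∈ center P := hz ▸ haZ g
  by_cases hs : ∀ c, End.eigenspace (ρ z) c ≠ ⊤
  · intro x hx
    refine eq_one_of_eigen (hcast z) (hpow z) fun c _ v hv => ?_
    have := ih _ (by have := Submodule.finrank_lt (hs c); omega) P _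
      (ρ.subrepresentation _ fun y => eigen_inv ρ (mem_center_iff.1 hzZ y) c) k rfl hP
      ((Submodule.finrank_le _).trans_lt hV) hx
    exact congrArg Subtype.val (LinearMap.congr_fun this ⟨v, hv⟩)
  push Not at hs
  obtain ⟨ζ, hζ⟩ := hs
  have hζv : ∀ v, ρ z v = ζ • v := fun v => End.mem_eigenspace_iff.1 (hζ.ge Submodule.mem_top)
  set H := centralizer ({a} : Set P)
  have hH : commutator P ≤ H := by
    rw [commutator_def, commutator_le]
    intro x _ y _
    have e : ∀ x y : P, ⁅a, x * y⁆ = ⁅a, x⁆ * ⁅a, y⁆ := fun x y =>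
      H3.commutator_mul_right_of_commute (mem_center_iff.1 (haZ y) x)
    have h1 : ⁅a, ⁅x, y⁆⁆ * ⁅a, y * x⁆ = ⁅a, y * x⁆ := by
      rw [← e, show ⁅x, y⁆ * (y * x) = x * y by rw [commutatorElement_def]; group, e, e,
        mem_center_iff.1 (haZ y)]
    exact mem_centralizer_singleton_iff.2
      (commutatorElement_eq_one_iff_mul_comm.1 (mul_eq_right.1 h1)).symm
  have hHlt : Nat.card H < Nat.card P := by
    refine lt_of_le_of_ne (card_le_card_group H) fun h => hg ?_
    rw [hz]
    exact commutatorElement_eq_one_iff_mul_comm.2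
      (mem_centralizer_singleton_iff.1 (((card_eq_iff_eq_top H).1 h).ge (mem_top g))).symm
  have hbound : ∀ c, c ^ orderOf a = 1 → p * finrank K (End.eigenspace (ρ a) c) ≤ finrank K V := by
    intro c hc
    have hc0 : c ≠ 0 := by
      rintro rfl
      rw [zero_pow (orderOf_pos a).ne'] at hc; exact zero_ne_one hc
    refine eig_bound (ρ a) (ρ g) (rep_inj ρ g) id Function.surjective_id
      (fun r v => map_smul (ρ g) r v) (fun c => ζ * c) (fun c v hv => ?_) c p ?_
    · rw [End.mem_eigenspace_iff] at *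
      have : a * g = z * g * a := by rw [hz, commutatorElement_def]; group
      change ρ a (ρ g v) = (ζ * c) • ρ g v
      rw [← End.mul_apply, ← map_mul, this, map_mul, map_mul, End.mul_apply, End.mul_apply, hv,
        map_smul, map_smul, hζv, smul_smul, mul_comm]
    · intro i j hij
      simp only [mul_left_iterate, mul_eq_mul_right_iff, hc0, or_false] at hij
      have h1 : ∀ m : ℕ, ζ ^ m = 1 → z ^ m = 1 := fun m hm => by
        rw [← mem_bot, ← hker, MonoidHom.mem_ker, map_pow]
        ext v
        have : ρ z = ζ • (1 : End K V) := LinearMap.ext fun v => by simp [hζv]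
        rw [this, smul_pow, hm]; simp
      have h2 : p ≤ orderOf z := by
        obtain ⟨j, hj⟩ := IsPGroup.iff_orderOf.1 hP z
        rcases j with _ | j
        · exact absurd (orderOf_eq_one_iff.1 hj) hg
        · rw [hj]; exact Nat.le_self_pow (Nat.succ_ne_zero j) p
      have hζ0 : ζ ≠ 0 := by
        rintro rfl
        refine hg ?_
        rw [← mem_bot, ← hker, MonoidHom.mem_ker]
        ext v
        rw [End.one_apply, rep_inj ρ z (show ρ z v = ρ z 0 by simp [hζv])]; simp
      have key : ∀ i j : Fin p, (i : ℕ) ≤ j → ζ ^ (i : ℕ) = ζ ^ (j : ℕ) → i = j := by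
        intro i j h3 h4
        obtain ⟨d, hd⟩ := Nat.exists_eq_add_of_le h3
        rw [hd, pow_add, eq_comm, mul_eq_left₀ (pow_ne_zero _ hζ0)] at h4
        have h5 := orderOf_dvd_of_pow_eq_one (h1 d h4)
        have h6 : d = 0 := Nat.eq_zero_of_dvd_of_lt h5 (by have := j.2; omega)
        exact Fin.ext (by omega)
      rcases le_total (i : ℕ) j with h | h
      · exact key i j h hij
      · exact (key j i h hij.symm).symm
  intro x hx
  obtain ⟨y, hy, rfl⟩ := derivedSeries_succ_le hH k hx
  refine eq_one_of_eigen (hcast a) (hpow a) fun c hc v hv => ?_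
  have h1 : finrank K (End.eigenspace (ρ a) c) < p ^ k :=
    lt_of_mul_lt_mul_left (a := p) (by rw [← pow_succ']; exact (hbound c hc).trans_lt hV)
      (Nat.zero_le _)
  rcases k with _ | k
  · rw [pow_zero, Nat.lt_one_iff, Submodule.finrank_eq_zero] at h1
    rw [h1, Submodule.mem_bot] at hv
    rw [hv, map_zero]
  have := ih _ (by have := Submodule.finrank_le (End.eigenspace (ρ a) c); omega) H _
    (Representation.subrepresentation (ρ.comp H.subtype) _
      fun y => eigen_inv ρ (mem_centralizer_singleton_iff.1 y.2) c) k rfl (hP.to_subgroup H) h1 hy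
  exact congrArg Subtype.val (LinearMap.congr_fun this ⟨v, hv⟩)

theorem derived_le_ker_frob (hK : (p : K) ≠ 0) {q : ℕ}
    (hσ : Function.Surjective fun r : K => r ^ q) (k n : ℕ) :
    ∀ (P : Type u) [Group P] [Finite P]
    (V : Type v) [AddCommGroup V] [Module K V] [FiniteDimensional K V] (ρ : Representation K P V)
    (Φ : V →+ V), Function.Injective Φ → (∀ (r : K) v, Φ (r • v) = r ^ q • Φ v) →
    (∀ g v, Φ (ρ g v) = ρ g (Φ v)) → finrank K V + Nat.card P = n → IsPGroup p P →
    finrank K V < orderOf (q : ZMod p) * p ^ (k + 1) → derivedSeries P (k + 1) ≤ ρ.ker := by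
  induction n using Nat.strong_induction_on with
  | _ n ih =>
  intro P _ _ V _ _ _ ρ Φ h1 h2 h3 hn hP hV
  by_cases hker : ρ.ker = ⊥
  swap
  · refine derived_le_ker_of_quot ρ _ (ih _ (by have := card_quot_lt hker; omega) _ V _ Φ h1 h2
      (fun g v => ?_) rfl (hP.to_quotient _) hV)
    obtain ⟨g, rfl⟩ := QuotientGroup.mk_surjective g
    exact h3 g v
  rcases subsingleton_or_nontrivial P with hP1 | hP1
  · intro x _; rw [Subsingleton.elim x 1]; exact one_mem _
  have := hP.center_nontrivial
  obtain ⟨⟨z, hz⟩, hzo⟩ := exists_prime_orderOf_dvd_card' (G := center P) p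
    ((hP.to_subgroup _).card_eq_or_dvd.resolve_left Finite.one_lt_card.ne')
  replace hzo : orderOf z = p := by rw [← hzo, ← Subgroup.orderOf_coe]
  have hΦ : ∀ c, ∀ v ∈ End.eigenspace (ρ z) c, Φ v ∈ End.eigenspace (ρ z) (c ^ q) := by
    intro c v hv
    rw [End.mem_eigenspace_iff] at *
    rw [← h3, hv, h2]
  intro x hx
  refine eq_one_of_eigen hK (f := ρ z) (by rw [← map_pow, ← hzo, pow_orderOf_eq_one, map_one])
    fun c hc v hv => ?_
  let ρ' := ρ.subrepresentation _ fun y => eigen_inv ρ (mem_center_iff.1 hz y) c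
  suffices h : derivedSeries P (k + 1) ≤ ρ'.ker from
    congrArg Subtype.val (LinearMap.congr_fun (h hx) ⟨v, hv⟩)
  by_cases hc1 : c = 1
  · subst hc1
    have h4 : End.eigenspace (ρ z) 1 ≠ ⊤ := fun h => by
      have : z ∈ ρ.ker := LinearMap.ext fun v => by
        simpa using End.mem_eigenspace_iff.1 (h.ge (Submodule.mem_top (x := v)))
      rw [hker, mem_bot] at this
      rw [this, orderOf_one] at hzo
      exact hp.out.one_lt.ne hzo
    let Φ' : End.eigenspace (ρ z) 1 →+ End.eigenspace (ρ z) 1 :=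
      { toFun := fun v => ⟨Φ v, by simpa using hΦ 1 v v.2⟩
        map_zero' := Subtype.ext (by simp)
        map_add' := fun a b => Subtype.ext (by simp) }
    exact ih _ (by have := Submodule.finrank_lt h4; omega) P _ ρ' Φ'
      (fun a b h => Subtype.ext (h1 (congrArg Subtype.val h))) (fun r v => Subtype.ext (h2 r v))
      (fun g v => Subtype.ext (h3 g v)) rfl hP ((Submodule.finrank_le _).trans_lt hV)
  refine derived_le_ker hK _ P _ ρ' k rfl hP (lt_of_mul_lt_mul_left (a := orderOf (q : ZMod p))
    (lt_of_le_of_lt ?_ hV) (Nat.zero_le _))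
  refine eig_bound (ρ z) Φ h1 _ hσ h2 (fun c => c ^ q) hΦ c _ fun i j hij => ?_
  simp only [pow_iterate] at hij
  have h5 : orderOf c = p := orderOf_eq_prime hc hc1
  have h6 : q ^ (i : ℕ) ≡ q ^ (j : ℕ) [MOD p] := by
    have := (isOfFinOrder_iff_pow_eq_one.2 ⟨p, hp.out.pos, hc⟩).pow_eq_pow_iff_modEq.1 hij
    rwa [h5] at this
  rw [← ZMod.natCast_eq_natCast_iff, Nat.cast_pow, Nat.cast_pow] at h6
  exact Fin.ext (pow_injOn_Iio_orderOf i.2 j.2 h6)

/-- extension of scalars of a matrix representation -/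
noncomputable def extRep {F : Type*} [Field F] (L : Type*) [Field L] [Algebra F L] {n : ℕ}
    {P : Type*} [Group P] (ρ : P →* Matrix.GeneralLinearGroup (Fin n) F) :
    Representation L P (Fin n → L) :=
  (Matrix.toLinAlgEquiv' : Matrix (Fin n) (Fin n) L ≃ₐ[L] _).toMonoidHom.comp
    ((algebraMap F L).mapMatrix.toMonoidHom.comp ((Units.coeHom _).comp ρ))

theorem extRep_apply {F : Type*} [Field F] (L : Type*) [Field L] [Algebra F L] {n : ℕ}
    {P : Type*} [Group P] (ρ : P →* Matrix.GeneralLinearGroup (Fin n) F) (g : P) (v : Fin n → L) :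
    extRep L ρ g v = ((ρ g : Matrix (Fin n) (Fin n) F).map (algebraMap F L)).mulVec v := rfl

theorem extRep_ker {F : Type*} [Field F] (L : Type*) [Field L] [Algebra F L] {n : ℕ}
    {P : Type*} [Group P] {ρ : P →* Matrix.GeneralLinearGroup (Fin n) F}
    (h : Function.Injective ρ) : (extRep L ρ).ker = ⊥ := by
  rw [MonoidHom.ker_eq_bot_iff]
  exact (Matrix.toLinAlgEquiv' : Matrix (Fin n) (Fin n) L ≃ₐ[L] _).injective.comp
    ((Matrix.map_injective (algebraMap F L).injective).comp (Units.val_injective.comp h))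

omit K in
theorem derived_eq_bot_finite {F : Type*} [Field F] [Fintype F] {q : ℕ} (hF : Fintype.card F = q)
    (hq : ¬ p ∣ q) {n k : ℕ} {P : Type*} [Group P] [Finite P] (hP : IsPGroup p P)
    (ρ : P →* Matrix.GeneralLinearGroup (Fin n) F) (h : Function.Injective ρ)
    (hn : n < orderOf (q : ZMod p) * p ^ (k + 1)) : derivedSeries P (k + 1) = ⊥ := by
  obtain ⟨r, hr⟩ := CharP.exists F
  obtain ⟨m, hrp, hm⟩ := FiniteField.card F r
  have := Fact.mk hrp
  let L := AlgebraicClosure F
  have hqm : q = r ^ (m : ℕ) := hF.symm.trans hm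
  have hL : (p : L) ≠ 0 := by
    rw [Ne, CharP.cast_eq_zero_iff L r]
    intro h1
    rw [(Nat.prime_dvd_prime_iff_eq hrp hp.out).1 h1] at hqm
    exact hq (hqm ▸ dvd_pow_self p m.ne_zero)
  let σ : L →+* L := iterateFrobenius L r m
  have hσ : ∀ x, σ x = x ^ q := fun x => by rw [hqm]; rfl
  let Φ : (Fin n → L) →+ (Fin n → L) := σ.toAddMonoidHom.compLeft (Fin n)
  have hΦ : ∀ v i, Φ v i = σ (v i) := fun v i => rfl
  rw [eq_bot_iff, ← extRep_ker L h]
  refine derived_le_ker_frob hL (fun x => IsAlgClosed.exists_pow_nat_eq x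
    (hqm ▸ pow_pos hrp.pos _)) k _ P _ (extRep L ρ) Φ (fun a b hab => funext fun i =>
      σ.injective (congrFun hab i)) (fun c v => funext fun i => ?_) (fun g v => funext fun i => ?_)
    rfl hP (by simpa using hn)
  · rw [hΦ, Pi.smul_apply, Pi.smul_apply, hΦ, smul_eq_mul, map_mul, hσ, smul_eq_mul]
  · rw [hΦ, extRep_apply, extRep_apply]
    simp only [Matrix.mulVec, dotProduct, map_sum, map_mul, Matrix.map_apply, hΦ]
    refine Finset.sum_congr rfl fun j _ => ?_
    rw [hσ, ← map_pow, ← hF, FiniteField.pow_card]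

end Cfsg.Agent.H73
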