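import Cfsg.Agent.H81.AutPrime
import Cfsg.Agent.H70.Conj
import Cfsg.Agent.H72.SylowIn

/-! Subgroups that are `p`-by-cyclic. -/

set_option autoImplicit false

namespace Cfsg.Agent.H73

open Subgroup

variable {G : Type*} [Group G] [Finite G] {p : ℕ} [hp : Fact p.Prime]

/-- `H` has a normal Sylow `p`-subgroup with cyclic quotient. -/
def PByCyc (p : ℕ) (H : Type*) [Group H] : Prop :=
  (∀ S : Sylow p H, (S : Subgroup H).Normal) ∧
    ∀ (S : Sylow p H) [(S : Subgroup H).Normal], IsCyclic (H ⧸ (S : Subgroup H))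

omit [Finite G] in
theorem isCyclic_quotient_of_sup {K : Subgroup G} [K.Normal] {g : G} (h : K ⊔ zpowers g = ⊤) :
    IsCyclic (G ⧸ K) := by
  refine ⟨⟨(g : G ⧸ K), fun y => ?_⟩⟩
  obtain ⟨y, rfl⟩ := QuotientGroup.mk_surjective y
  obtain ⟨a, ha, _, ⟨k, rfl⟩, rfl⟩ := mem_sup_of_normal_left.1 (h.ge (mem_top y))
  exact ⟨k, by simp [(QuotientGroup.eq_one_iff a).2 ha]⟩

theorem pByCyc_top {K : Subgroup G} [K.Normal] (hK : IsPGroup p K) {g : G}
    (h : K ⊔ zpowers g = ⊤) : PByCyc p G := by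
  refine ⟨fun S => ?_, fun S _ => isCyclic_quotient_of_sup (g := g)
    (top_le_iff.1 (h.ge.trans (sup_le_sup_right (hK.le_sylow_of_normal S) _)))⟩
  have := isCyclic_quotient_of_sup h
  refine ⟨fun x hx y => ?_⟩
  have h1 : y * x * y⁻¹ * x⁻¹ ∈ K := by
    rw [← QuotientGroup.eq_one_iff]
    simp only [QuotientGroup.mk_mul, QuotientGroup.mk_inv]
    rw [mul_comm' (y : G ⧸ K)]; group
  simpa using (S : Subgroup G).mul_mem (hK.le_sylow_of_normal S h1) hx

theorem pByCyc_sup {K : Subgroup G} (hK : IsPGroup p K) {g : G}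
    (hg : g ∈ normalizer (K : Set G)) : PByCyc p ↥(K ⊔ zpowers g) := by
  have hn : K ⊔ zpowers g ≤ normalizer (K : Set G) := sup_le le_normalizer (zpowers_le.2 hg)
  have := normal_subgroupOf_of_le_normalizer hn
  refine pByCyc_top (K := K.subgroupOf (K ⊔ zpowers g)) hK.comap_subtype
    (g := ⟨g, mem_sup_right (mem_zpowers g)⟩) ?_
  apply map_injective (K ⊔ zpowers g).subtype_injective
  rw [Subgroup.map_sup, map_subgroupOf_eq_of_le le_sup_left, MonoidHom.map_zpowers,
    ← MonoidHom.range_eq_map, range_subtype]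
  rfl

theorem PByCyc.exists_gen {H : Subgroup G} (h : PByCyc p H) :
    ∃ T : Subgroup G, ∃ g : G, IsPGroup p T ∧ g ∈ normalizer (T : Set G) ∧
      (orderOf g).Coprime p ∧ H = T ⊔ zpowers g := by
  obtain ⟨S⟩ : Nonempty (Sylow p H) := inferInstance
  have := h.1 S
  obtain ⟨y, hy⟩ := (h.2 S).exists_generator
  obtain ⟨y, rfl⟩ := QuotientGroup.mk_surjective y
  obtain ⟨a, b, -, -, ⟨k, hk⟩, hb, rfl⟩ := H3.exists_p_part (p := p) y
  have ha : a ∈ (S : Subgroup H) := by
    have h1 : IsPGroup p (zpowers a) := IsPGroup.of_card (n := (orderOf a).factorization p) (by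
      obtain ⟨i, -, hi⟩ := (Nat.dvd_prime_pow hp.out).1 (orderOf_dvd_of_pow_eq_one hk)
      rw [Nat.card_zpowers, hi]; simp [hp.out.factorization_pow])
    obtain ⟨Q, hQ⟩ := h1.exists_le_sylow
    have := Sylow.unique_of_normal S this
    rw [Subsingleton.elim S Q]; exact hQ (mem_zpowers a)
  have h2 : (S : Subgroup H) ⊔ zpowers b = ⊤ := by
    rw [eq_top_iff]
    intro x _
    obtain ⟨k, hk⟩ := hy (x : H ⧸ (S : Subgroup H))
    simp only [QuotientGroup.mk_mul, (QuotientGroup.eq_one_iff a).2 ha, one_mul] at hk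
    rw [← QuotientGroup.mk_zpow, QuotientGroup.eq] at hk
    have : x = b ^ k * ((b ^ k)⁻¹ * x) := by group
    rw [this]
    exact mul_mem (mem_sup_right (zpow_mem (mem_zpowers b) k)) (mem_sup_left hk)
  refine ⟨(S : Subgroup H).map H.subtype, b, S.isPGroup'.map _, ?_, by simpa using hb, ?_⟩
  · exact H70.norm_map H.subtype (L := ⊤) H70.norm_of_normal ⟨b, mem_top _, rfl⟩
  · have := congrArg (Subgroup.map H.subtype) h2
    rwa [Subgroup.map_sup, MonoidHom.map_zpowers, ← MonoidHom.range_eq_map, range_subtype,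
      eq_comm] at this

omit [Finite G] in
theorem isCyclic_sup_of_commute {a b : G} (h : Commute a b)
    (hc : (orderOf a).Coprime (orderOf b)) : IsCyclic ↥(zpowers a ⊔ zpowers b) := by
  have key : ∀ {a b : G}, Commute a b → (orderOf a).Coprime (orderOf b) → a ∈ zpowers (a * b) := by
    intro a b h hc
    have h1 : (a * b) ^ orderOf b = a ^ orderOf b := by rw [h.mul_pow, pow_orderOf_eq_one, mul_one]
    have h2 : a ∈ zpowers (a ^ orderOf b) := mem_zpowers_pow_iff.2 hc.symm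
    rw [← h1] at h2
    exact (zpowers_le.2 (pow_mem (mem_zpowers _) _)) h2
  have : zpowers a ⊔ zpowers b = zpowers (a * b) := le_antisymm
    (sup_le (zpowers_le.2 (key h hc)) (zpowers_le.2 (h.eq ▸ key h.symm hc.symm)))
    (zpowers_le.2 (mul_mem (mem_sup_left (mem_zpowers a)) (mem_sup_right (mem_zpowers b))))
  rw [this]; infer_instance

theorem isCyclic_sup_of_cent {T : Subgroup G} (hT : IsPGroup p T) (hc : IsCyclic T) {g : G}
    (hg : g ∈ centralizer (T : Set G)) (ho : (orderOf g).Coprime p) :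
    IsCyclic ↥(T ⊔ zpowers g) := by
  obtain ⟨t, rfl⟩ := T.isCyclic_iff_exists_zpowers_eq_top.1 hc
  refine isCyclic_sup_of_commute (hg t (mem_zpowers t)) ?_
  obtain ⟨k, hk⟩ := hT.exists_card_eq
  rw [← Nat.card_zpowers, hk]
  exact Nat.Coprime.pow_left _ ho.symm

theorem isCyclic_of_pgroup (P : Sylow p G) (hP : IsCyclic P) {T : Subgroup G}
    (hT : IsPGroup p T) : IsCyclic T := by
  obtain ⟨Q, hQ⟩ := hT.exists_le_sylow
  have : IsCyclic Q := isCyclic_of_surjective (P.equiv Q) (P.equiv Q).surjective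
  exact isCyclic_of_le hQ

theorem exists_cj_le_sylow (P : Sylow p G) {T : Subgroup G} (hT : IsPGroup p T) :
    ∃ u : G, H70.cj u T ≤ P := by
  obtain ⟨Q, hQ⟩ := hT.exists_le_sylow
  obtain ⟨u, rfl⟩ := MulAction.exists_smul_eq G Q P
  exact ⟨u, H70.cj_mono u hQ⟩

theorem cent_of_cyclic_two {T : Subgroup G} (hT : IsPGroup 2 T) (hc : IsCyclic T) {g : G}
    (hg : g ∈ normalizer (T : Set G)) (ho : (orderOf g).Coprime 2) :
    g ∈ centralizer (T : Set G) := by
  classical
  by_contra hn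
  obtain ⟨q, hq, -, -, i, h1, h2, -, h3⟩ :=
    H81.exists_dvd_pow_sub_one_of_not_mem_centralizer hT hg ho hn
  obtain ⟨t, ht⟩ := isCyclic_iff_exists_zpowers_eq_top.1 hc
  have h4 : Group.rank T ≤ 1 := (Group.rank_le (S := {t}) (by
    rw [Finset.coe_singleton, ← zpowers_eq_closure, ht])).trans (by simp)
  obtain rfl : i = 1 := by omega
  exact hq.one_lt.ne' (by simpa using h3)

end Cfsg.Agent.H73
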