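import Cfsg.Prelude.Def_TwoFusion
import Cfsg.Agent.H62.FC
import Cfsg.Agent.H62.Stable
import Cfsg.Agent.H23.ZJ
import Cfsg.Agent.H22.PConstrained

/-! The ZJ theorem and control of fusion for strongly closed subgroups. -/

set_option autoImplicit false

namespace Cfsg.Agent.H73

open Subgroup Cfsg.Agent.H72 Cfsg.Agent.H61 Cfsg.Agent.H23
open scoped commutatorElement

variable {G Y : Type*} [Group G] [Group Y] {p : ℕ}

theorem sc_normalizer [Finite G] {D S : Subgroup G} (h : IsStronglyClosed D S) :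
    normalizer (S : Set G) ≤ normalizer (D : Set G) := fun g hg =>
  mem_normalizer_of_conj_mem fun x hx => h.2 x hx g (H72.conj_mem_of_mem_normalizer hg (h.1 hx))

theorem sc_inf {D S R : Subgroup G} (h : IsStronglyClosed D S) (hR : R ≤ S) :
    IsStronglyClosed (D ⊓ R) R :=
  ⟨inf_le_right, fun x hx g hg => ⟨h.2 x hx.1 g (hR hg), hg⟩⟩

theorem sc_self (S : Subgroup G) : IsStronglyClosed S S := ⟨le_rfl, fun _ _ _ h => h⟩

theorem sc_comap {D S : Subgroup G} (h : IsStronglyClosed D S) (f : Y →* G) :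
    IsStronglyClosed (D.comap f) (S.comap f) :=
  ⟨comap_mono h.1, fun x hx g hg => by
    simp only [mem_comap, map_mul, map_inv] at hx hg ⊢
    exact h.2 _ hx _ hg⟩

theorem exists_ker_cj_le [Finite G] [Fact p.Prime] (f : G →* Y)
    (hK : (Nat.card f.ker).Coprime p) {S M B : Subgroup G} (hS : IsPGroup p S) (hSM : S ≤ M)
    (hB : IsPGroup p B) (hBM : B ≤ M) (h : B.map f ≤ S.map f) :
    ∃ k ∈ M, f k = 1 ∧ cj k B ≤ S := by
  have hn : S ≤ normalizer (f.ker : Set G) := le_normalizer_of_normal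
  have h1 : B ≤ S ⊔ (M ⊓ f.ker) := by
    rw [← inf_sup_of_normalizes hSM hn]
    refine le_inf hBM ?_
    rwa [← comap_map_eq, ← map_le_iff_le_comap]
  have h0 : IsSylowIn p S (S ⊔ f.ker) := H62.isSylowIn_iff_sylIn.2 (H22.sylIn_sup_of_coprime hS hK)
  obtain ⟨l, hl, hl'⟩ := (h0.of_le le_sup_left (sup_le_sup_left inf_le_right S)).exists_cj_le hB h1
  obtain ⟨s, hs, k, hk, rfl⟩ := mem_sup_of_normalizes
    (le_normalizer_inf (le_normalizer_of_le hSM) hn) hl
  rw [cj_mul, cj_le_iff, cj_eq_of_mem (S.inv_mem hs)] at hl'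
  exact ⟨k, hk.1, hk.2, hl'⟩

theorem sc_map [Finite G] [Fact p.Prime] {D S : Subgroup G} (h : IsStronglyClosed D S)
    (hS : IsPGroup p S) (f : G →* Y) (hf : Function.Surjective f)
    (hK : (Nat.card f.ker).Coprime p) : IsStronglyClosed (D.map f) (S.map f) := by
  refine ⟨map_mono h.1, ?_⟩
  rintro _ ⟨x, hx, rfl⟩ g hg
  obtain ⟨g, rfl⟩ := hf g
  obtain ⟨k, -, hk, h1⟩ := exists_ker_cj_le f hK hS le_top (B := zpowers (g * x * g⁻¹))
    (by rw [← cj_zpowers]; exact IsPGroup_cj g (hS.to_le (zpowers_le.2 (h.1 hx)))) le_top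
    (by rw [MonoidHom.map_zpowers, zpowers_le]; simpa using hg)
  have h2 := h1 (conj_mem_cj (mem_zpowers _))
  refine ⟨_, h.2 x hx (k * g) (by simpa [mul_assoc] using h2), by simp [hk]⟩

theorem inf_zj_normal_sc [Finite G] [Fact p.Prime] (hp : p ≠ 2) {e : ℕ}
    (he : Odd e ∨ e = 0) (hst : QStable p G) (S : Sylow p G) {D : Subgroup G}
    (hD : IsStronglyClosed D S) (B : Subgroup G) [hBn : B.Normal]
    (hB : IsPGroup p B) : (B ⊓ zj e D).Normal := by
  induction hn : Nat.card B using Nat.strong_induction_on generalizing B with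
  | _ n ih =>
  have IH : ∀ C : Subgroup G, C.Normal → C < B → (C ⊓ zj e D).Normal :=
    fun C hC hlt => ih _ (hn ▸ card_lt_of_lt hlt) C (hB.to_le hlt.le) rfl
  set Z := zj e D with hZ
  have hBS : B ≤ S := hB.le_sylow_of_normal S
  have hncl : normalClosure ((B ⊓ Z : Subgroup G) : Set G) ≤ B :=
    normalClosure_le_normal (SetLike.coe_subset_coe.mpr inf_le_left)
  rcases hncl.lt_or_eq with hlt | hcl
  · have h1 := IH _ inferInstance hlt
    have h2 : normalClosure ((B ⊓ Z : Subgroup G) : Set G) ⊓ Z = B ⊓ Z :=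
      le_antisymm (inf_le_inf_right _ hncl) (le_inf le_normalClosure inf_le_right)
    exact h2 ▸ h1
  by_cases hb : B = ⊥
  · rw [hb, bot_inf_eq]; infer_instance
  have hY := IH _ inferInstance (commutator_self_lt_of_isPGroup hB hb)
  have hSD : (S : Subgroup G) ≤ normalizer (D : Set G) := le_normalizer.trans (sc_normalizer hD)
  have hSZ : (S : Subgroup G) ≤ normalizer (Z : Set G) :=
    hSD.trans (normalizer_le_normalizer_zj e _)
  have hBZ : ⁅B, B⁆ ≤ Z := by
    let T : Subgroup G := (centralizer ((B.map (QuotientGroup.mk' (⁅B, B⁆ ⊓ Z)) :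
      Subgroup _) : Set (G ⧸ (⁅B, B⁆ ⊓ Z)))).comap (QuotientGroup.mk' (⁅B, B⁆ ⊓ Z))
    have hT : ∀ x, x ∈ T ↔ ∀ c ∈ B, ⁅c, x⁆ ∈ ⁅B, B⁆ ⊓ Z := by
      intro x
      simp only [T, mem_comap, mem_centralizer_iff_commutator_eq_one, SetLike.mem_coe, mem_map]
      constructor
      · intro h c hc
        rw [← QuotientGroup.eq_one_iff]
        exact h _ ⟨c, hc, rfl⟩
      · rintro h _ ⟨c, hc, rfl⟩
        exact (QuotientGroup.eq_one_iff _).mpr (h c hc)
    have : (B.map (QuotientGroup.mk' (⁅B, B⁆ ⊓ Z))).Normal :=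
      hBn.map _ (QuotientGroup.mk'_surjective _)
    have hBT : B ≤ T := by
      rw [← hcl]
      refine normalClosure_le_normal fun x hx => (hT x).mpr fun c hc => ?_
      have hx' := mem_inf.mp hx
      exact mem_inf.mpr ⟨commutator_mem_commutator hc hx'.1,
        le_normalizer_iff_commutator_le_right.mp hSZ (commutator_mem_commutator (hBS hc) hx'.2)⟩
    rw [commutator_le]
    exact fun x hx y hy => (mem_inf.mp ((hT y).mp (hBT hy) x hx)).2
  by_cases hall : ∀ A ∈ maxAb e D, B ≤ A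
  · have hBZ' : B ≤ Z := le_sInf hall
    rw [inf_eq_left.mpr hBZ']; exact hBn
  exfalso
  push Not at hall
  obtain ⟨U, hU, hnU⟩ := hall
  obtain ⟨A, hA, -, hnA, hBA⟩ := exists_maxAb_normalized S.isPGroup' he hD.1 hSD hBS
    le_normalizer_of_normal (fun h => absurd h hp) hU (hBZ.trans (zj_le_of_mem hU)) hnU
  have hq : ⁅⁅B, A⁆, A⁆ = ⊥ := commutator_eq_bot_of_le (commutator_self_eq_bot_iff.mpr hA.2.1)
    (le_normalizer_iff_commutator_le_right.mp hBA) le_rfl
  set K := (Cfsg.pCore p (G ⧸ centralizer (B : Set G))).comap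
    (QuotientGroup.mk' (centralizer (B : Set G))) with hK
  have hAK : A ≤ K :=
    map_le_iff_le_comap.mp (hst B hB A (S.isPGroup'.to_le (hA.1.trans hD.1)) hA.2.1 hq)
  have hKN : K ≤ normalizer ((B ⊓ Z : Subgroup G) : Set G) := by
    refine (comap_pCore_le_sup _ S).trans (sup_le ?_ ?_)
    · exact (centralizer_le (SetLike.coe_subset_coe.mpr inf_le_left)).trans
        (centralizer_le_normalizer _)
    · exact (le_inf le_normalizer_of_normal hSZ).trans inf_normalizer_le_normalizer_inf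
  have hR : H4.IsSylowIn p ((S : Subgroup G) ⊓ K) K :=
    (H4.isSylowIn_top S).inf_of_normalizes le_top le_normalizer_of_normal
  have hAR : A ≤ D ⊓ ((S : Subgroup G) ⊓ K) := le_inf hA.1 (le_inf (hA.1.trans hD.1) hAK)
  apply hnA
  refine le_trans ?_ (zj_le_of_mem (mem_maxAb_of_le hA hAR inf_le_left))
  rw [← hcl, normalClosure, closure_le]
  intro y hy
  obtain ⟨x, hx, hxy⟩ := Group.mem_conjugatesOfSet_iff.mp hy
  obtain ⟨g, rfl⟩ := isConj_iff.mp hxy
  obtain ⟨k, hk, hkg⟩ := hR.frattini (g := g⁻¹) (le_normalizer_of_normal (mem_top _))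
  have h1 : k * x * k⁻¹ ∈ B ⊓ Z := H23.conj_mem_of_mem_normalizer (hKN hk) hx
  have h2 := H23.conj_mem_of_mem_normalizer'
    (normalizer_le_normalizer_zj e _ (sc_normalizer (sc_inf hD inf_le_left) hkg))
    (zj_le_zj hA hAR inf_le_left (mem_inf.mp h1).2)
  have : g * x * g⁻¹ = (k * g⁻¹)⁻¹ * (k * x * k⁻¹) * (k * g⁻¹) := by group
  rw [SetLike.mem_coe, this]
  exact h2

theorem zj_normal_sc [Finite G] [Fact p.Prime] (hp : p ≠ 2) {e : ℕ}
    (he : Odd e ∨ e = 0) (hst : QStable p G)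
    (hc : centralizer (Cfsg.pCore p G : Set G) ≤ Cfsg.pCore p G) (S : Sylow p G) {D : Subgroup G}
    (hD : IsStronglyClosed D S) : (zj e D).Normal := by
  have hO : Cfsg.pCore p G ≤ normalizer (zj e D : Set G) :=
    (H22.pCore_le_sylow S).trans (le_normalizer.trans
      ((sc_normalizer hD).trans (normalizer_le_normalizer_zj e _)))
  have hq : ⁅⁅Cfsg.pCore p G, zj e D⁆, zj e D⁆ = ⊥ :=
    commutator_eq_bot_of_le (commutator_self_eq_bot_iff.mpr (zj_comm e _))
      (le_normalizer_iff_commutator_le_right.mp hO) le_rfl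
  have h1 := map_le_iff_le_comap.mp
    (hst _ H22.isPGroup_pCore _ (S.isPGroup'.to_le ((zj_le e _).trans hD.1)) (zj_comm e _) hq)
  rw [H22.comap_pCore_of_ker_isPGroup _ (QuotientGroup.mk'_surjective _)
    (by rw [QuotientGroup.ker_mk']; exact H22.isPGroup_pCore.to_le hc)] at h1
  have h2 := inf_zj_normal_sc hp he hst S hD _ (H22.isPGroup_pCore (p := p) (G := G))
  rwa [inf_eq_right.mpr h1] at h2

theorem qStable_of_stab (h : H62.Stab p G) : QStable p G := by
  refine qStable_of_isPStableOn fun B _ hB a ha => ?_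
  obtain ⟨R, -, h2, h3, h4⟩ := h B hB a (le_normalizer_of_normal (mem_top a)) ha
  rw [normalizer_eq_top, top_le_iff, normalizer_eq_top_iff] at h2
  refine H22.le_pCore (h2.map (QuotientGroup.mk' _) (QuotientGroup.mk'_surjective _)) ?_ ⟨a, h3, rfl⟩
  rintro ⟨_, x, hx, rfl⟩
  obtain ⟨k, hk⟩ := h4 x hx
  refine ⟨k, Subtype.ext ?_⟩
  change (QuotientGroup.mk' _ x) ^ p ^ k = 1
  rw [← map_pow]
  exact (QuotientGroup.eq_one_iff _).2 hk

theorem stab_sub (h : H62.Stab p G) (H : Subgroup G) : H62.Stab p H := by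
  intro P hP g hg hq
  have hi := H.subtype_injective
  obtain ⟨R, h1, h2, h3, h4⟩ := h (P.map H.subtype) (hP.map _) g
    (le_normalizer_map _ ⟨g, hg, rfl⟩) (by
      rw [← Subgroup.map_eq_bot_iff_of_injective _ hi, map_commutator, map_commutator,
        MonoidHom.map_zpowers] at hq
      exact hq)
  have hc := comap_map_eq_self_of_injective hi P
  refine ⟨R.comap H.subtype, ?_, ?_, h3, fun r hr => ?_⟩
  · rw [← hc]
    exact (comap_mono h1).trans (le_normalizer_comap _)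
  · refine le_trans ?_ (le_normalizer_comap _)
    rw [← map_le_iff_le_comap]
    exact (le_normalizer_map _).trans h2
  · obtain ⟨k, hk⟩ := h4 r hr
    exact ⟨k, fun x hx => hi (hk _ ⟨x, hx, rfl⟩)⟩

theorem stab_quot [Finite G] [Fact p.Prime] (h : H62.Stab p G) (f : G →* Y)
    (hf : Function.Surjective f) (hK : (Nat.card f.ker).Coprime p) : H62.Stab p Y := by
  intro P hP g hg hq
  obtain ⟨P, -, hP', rfl⟩ := H22.exists_isPGroup_map_eq f (H := ⊤) hP
    (by rw [map_top_of_surjective f hf]; exact le_top)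
  rw [← H22.map_normalizer_of_ker_coprime f hf hK hP'] at hg ⊢
  obtain ⟨g, hg, rfl⟩ := hg
  have h0 : zpowers g ≤ normalizer (P : Set G) := zpowers_le.2 hg
  obtain ⟨R, h1, h2, h3, h4⟩ := h P hP' g hg (by
    refine H22.eq_bot_of_map_eq_bot_of_ker_coprime f hK (hP'.to_le ?_) ?_
    · exact (commutator_mono (le_normalizer_iff_commutator_le_left.1 h0) le_rfl).trans
        (le_normalizer_iff_commutator_le_left.1 h0)
    · rwa [map_commutator, map_commutator, MonoidHom.map_zpowers])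
  refine ⟨R.map f, map_mono h1, (map_mono h2).trans (le_normalizer_map _), ⟨g, h3, rfl⟩, ?_⟩
  rintro _ ⟨r, hr, rfl⟩
  obtain ⟨k, hk⟩ := h4 r hr
  exact ⟨k, H22.map_centralizer_le f P ⟨_, hk, map_pow f r _⟩⟩

/-- `N_H(Z)` controls strong `H`-fusion in `S`. -/
def CFin (H Z S : Subgroup G) : Prop :=
  ∀ A ≤ S, ∀ g ∈ H, cj g A ≤ S → ∃ x ∈ H ⊓ normalizer (Z : Set G), Same A x g

theorem cfin_of_normal (Z S : Subgroup G) [Z.Normal] : CFin ⊤ Z S :=
  fun _ _ g _ _ => ⟨g, ⟨mem_top g, le_normalizer_of_normal (mem_top g)⟩, Same.refl _ _⟩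

theorem cfin_of_quot [Finite G] [Fact p.Prime] (f : G →* Y) (hf : Function.Surjective f)
    (hK : (Nat.card f.ker).Coprime p) {Z S : Subgroup G} (hS : IsPGroup p S) (hZS : Z ≤ S)
    (hSZ : S ≤ normalizer (Z : Set G)) (h : CFin ⊤ (Z.map f) (S.map f)) : CFin ⊤ Z S := by
  intro A hA g _ hg
  obtain ⟨y, ⟨-, hy⟩, hy2⟩ := h (A.map f) (map_mono hA) (f g) (mem_top _)
    (H62.map_cj' f g A ▸ map_mono hg)
  rw [← H22.map_normalizer_of_ker_coprime f hf hK (hS.to_le hZS)] at hy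
  obtain ⟨y, hy, rfl⟩ := hy
  obtain ⟨k, hk, hk1, hk2⟩ := exists_ker_cj_le f hK hS hSZ (IsPGroup_cj y (hS.to_le hA))
    (cj_le_of_mem hy (hA.trans hSZ)) (by
      rw [H62.map_cj', hy2.cj_eq, ← H62.map_cj']; exact map_mono hg)
  rw [← cj_mul] at hk2
  refine ⟨k * y, ⟨mem_top _, mul_mem hk hy⟩, fun a ha => ?_⟩
  have h1 : (k * y * a * (k * y)⁻¹)⁻¹ * (g * a * g⁻¹) ∈ S ⊓ f.ker := by
    refine ⟨S.mul_mem (S.inv_mem (hk2 (conj_mem_cj ha))) (hg (conj_mem_cj ha)), ?_⟩
    have := hy2 _ ⟨a, ha, rfl⟩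
    change f _ = 1
    simp only [map_mul, map_inv, hk1, one_mul]
    rw [this, inv_mul_cancel]
  rw [H22.inf_eq_bot_of_pgroup_coprime hS hK, mem_bot] at h1
  exact inv_mul_eq_one.1 h1

theorem cfin_of_sub {H Z S : Subgroup G} (hS : S ≤ H) (hZ : Z ≤ H)
    (h : CFin ⊤ (Z.subgroupOf H) (S.subgroupOf H)) : CFin H Z S := by
  intro A hA g hg hgA
  obtain ⟨x, ⟨-, hx⟩, hx2⟩ := h (A.subgroupOf H) (comap_mono hA) ⟨g, hg⟩ (mem_top _) (by
    rintro _ ⟨a, ha, rfl⟩
    exact hgA (conj_mem_cj ha))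
  refine ⟨x, ⟨x.2, ?_⟩, fun a ha => congrArg Subtype.val (hx2 ⟨a, hS (hA ha)⟩ ha)⟩
  rw [← map_subgroupOf_eq_of_le hZ]
  exact le_normalizer_map _ ⟨x, hx, rfl⟩

theorem zj_subgroupOf [Finite G] (e : ℕ) {D H : Subgroup G} (h : D ≤ H) :
    zj e (D.subgroupOf H) = (zj e D).subgroupOf H := by
  rw [← map_subgroupOf_eq_of_le h, zj_map H.subtype_injective, map_subgroupOf_eq_of_le h]
  exact (comap_map_eq_self_of_injective H.subtype_injective _).symm

theorem cfin_zj_of_quot [Finite G] [Finite Y] [Fact p.Prime] (f : G →* Y)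
    (hf : Function.Surjective f) (hK : (Nat.card f.ker).Coprime p) {e : ℕ} {D S : Subgroup G}
    (hS : IsPGroup p S) (hD : IsStronglyClosed D S) (h : CFin ⊤ (zj e (D.map f)) (S.map f)) :
    CFin ⊤ (zj e D) S := by
  refine cfin_of_quot f hf hK hS ((zj_le e D).trans hD.1) (le_normalizer.trans
    ((sc_normalizer hD).trans (normalizer_le_normalizer_zj e _))) ?_
  rwa [← zj_map_of_injOn f e D
    (by rw [inf_comm]; exact H22.inf_eq_bot_of_pgroup_coprime (hS.to_le hD.1) hK)]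

theorem cfin_zj_of_constrained [Finite G] [Fact p.Prime] (hp : p ≠ 2) {e : ℕ}
    (he : Odd e ∨ e = 0) (hst : H62.Stab p G) (hc : IsPConstrained p G) (S : Sylow p G)
    {D : Subgroup G} (hD : IsStronglyClosed D S) : CFin ⊤ (zj e D) S := by
  have hs := QuotientGroup.mk'_surjective (pPrimeCore p G)
  refine cfin_zj_of_quot _ hs H22.coprime_ker_mk' S.isPGroup' hD ?_
  have := zj_normal_sc hp he (qStable_of_stab (stab_quot hst _ hs H22.coprime_ker_mk'))
    (H22.isPConstrained_iff.1 hc) (S.mapSurjective hs)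
    (sc_map hD S.isPGroup' _ hs H22.coprime_ker_mk')
  exact cfin_of_normal _ _

theorem controls_of_cfin {Z S : Subgroup G} (h : CFin ⊤ Z S) (A : Set G) (hA : A ⊆ S) :
    ControlsStrongFusionOf (normalizer (Z : Set G)) S A := by
  refine ⟨hA, fun g hg => ?_⟩
  obtain ⟨x, hx, hs⟩ := h (closure A) ((closure_le _).2 hA) g (mem_top g) (cj_closure_le_iff.2 hg)
  exact ⟨x, hx.2, fun a ha => (hs a (subset_closure ha)).symm⟩

theorem cfin_of_controls {Z S : Subgroup G}
    (h : ∀ A : Set G, A ⊆ S → ControlsStrongFusionOf (normalizer (Z : Set G)) S A) :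
    CFin ⊤ Z S := by
  intro A hA g _ hg
  obtain ⟨x, hx, hs⟩ := (h A hA).2 g (by rintro _ ⟨a, ha, rfl⟩; exact hg (conj_mem_cj ha))
  exact ⟨x, ⟨mem_top x, hx⟩, fun a ha => (hs a ha).symm⟩

end Cfsg.Agent.H73
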