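/-
Degree equations of principal blocks of defect one as a Boolean sieve; coprime action on groups
with small Sylow subgroups.
-/
import Cfsg.Agent.H35.SmallOrd
import Cfsg.Agent.H35.BlkExt
import Cfsg.Agent.H18.SieveB
import Cfsg.Agent.H1.InvSylow
import Cfsg.Agent.S4729
import Cfsg.Agent.S0904

set_option autoImplicit false
set_option linter.unusedSectionVars false

namespace Cfsg.Agent.H73.Sm

open Subgroup Cfsg.Agent.H35 Cfsg.Agent.H36 Cfsg.Agent.H18

/-- all sums of `k` members of `L` -/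
def sums (L : List (ℤ × ℤ)) : ℕ → List (ℤ × ℤ)
  | 0 => [(0, 0)]
  | k + 1 => (sums L k).flatMap fun a => L.map fun b => (b.1 + a.1, b.2 + a.2)

theorem sum_mem_sums {ι : Type*} (T : Finset ι) (f g : ι → ℤ) (L : List (ℤ × ℤ))
    (h : ∀ i ∈ T, (f i, g i) ∈ L) : (∑ i ∈ T, f i, ∑ i ∈ T, g i) ∈ sums L T.card := by
  classical
  induction T using Finset.induction_on with
  | empty => simp [sums]
  | insert a T ha ih =>
    rw [Finset.card_insert_of_notMem ha, Finset.sum_insert ha, Finset.sum_insert ha, sums,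
      List.mem_flatMap]
    exact ⟨_, ih fun i hi => h i (Finset.mem_insert_of_mem hi),
      List.mem_map.2 ⟨_, h a (Finset.mem_insert_self _ _), rfl⟩⟩

/-- signed degrees with their squares -/
def sl (p N lo : ℕ) : List (ℤ × ℤ) :=
  ((List.range (N + 1)).filter fun d => decide (lo ≤ d) && N % d == 0).flatMap fun d =>
    (if d % p = 1 then [((d : ℤ), (d : ℤ) ^ 2)] else []) ++
      if (d + 1) % p = 0 then [(-(d : ℤ), (d : ℤ) ^ 2)] else []

theorem mem_sl {p N lo d : ℕ} {δ : ℤ} (hp : 1 < p) (hN : 0 < N) (h1 : lo ≤ d) (h2 : d ∣ N)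
    (h3 : δ = 1 ∨ δ = -1) (h4 : (p : ℤ) ∣ δ - d) : (δ * d, (d : ℤ) ^ 2) ∈ sl p N lo := by
  refine List.mem_flatMap.2 ⟨d, List.mem_filter.2 ⟨List.mem_range.2
    (Nat.lt_succ_of_le (Nat.le_of_dvd hN h2)), by simp [h1, Nat.mod_eq_zero_of_dvd h2]⟩, ?_⟩
  rcases h3 with rfl | rfl
  · have : d % p = 1 := by
      rw [← Nat.mod_eq_of_lt hp]
      exact (Nat.modEq_iff_dvd.2 (by simpa using h4))
    simp [this]
  · have : (d + 1) % p = 0 := Nat.mod_eq_zero_of_dvd (by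
      rw [← Int.natCast_dvd_natCast, ← dvd_neg, Nat.cast_succ,
        show -((d : ℤ) + 1) = -1 - d by ring]
      exact h4)
    simp [this]

variable {G : Type*} [Group G] [Finite G]

/-- the degree of an irreducible character -/
noncomputable abbrev dg (χ : IrrCharacter G) : ℕ := charDegree (χ : G → ℂ)

theorem sum_sq (T : Finset (IrrCharacter G)) (h : ∀ χ, χ ∈ T) : ∑ χ ∈ T, dg χ ^ 2 = Nat.card G := by
  haveI : Fintype (IrrCharacter G) := ⟨T, h⟩
  have h1 := H5.sum_degree_sq (G := G)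
  simp only [cast_degree_irr] at h1
  rw [Finset.eq_univ_of_forall h]
  exact_mod_cast h1

theorem blk_data [IsSimpleGroup G] {p m : ℕ} (hp : p.Prime) (h : Nat.card G = p * m)
    (hm : ¬ p ∣ m) (hm1 : m ≠ 1) : ∃ (v e np d : ℕ) (s t : ℤ), v * e * np = m ∧ np % p = 1 ∧
      np ≠ 1 ∧ Nat.card G ∣ np.factorial ∧ e ≠ 1 ∧ e ∣ p - 1 ∧
      (s, t) ∈ sums (sl p (e * np) (if v = 1 then 2 else 2 * p)) (e - 1) ∧
      (if v = 1 then 2 else 2 * p) ≤ d ∧ d ∣ e * np ∧ d = (1 + s).natAbs ∧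
      (∃ χ : IrrCharacter G, dg χ = d) ∧
      ((∀ x : G, p ∣ orderOf x → orderOf x = p) → v = 1) ∧
      (v = 1 → (∀ χ : IrrCharacter G, ¬ p ∣ dg χ → dg χ = 1 ∨ (dg χ : ℤ) ^ 2 ≤ t ∨ dg χ = d) ∧
        ((∀ χ : IrrCharacter G, ¬ p ∣ dg χ) →
          (Nat.card G : ℤ) = 1 + t + ((p - 1) / e : ℕ) * (d : ℤ) ^ 2)) := by
  classical
  haveI := Fact.mk hp
  obtain ⟨S, B, φ, hB, hφ, hG, -, h1, h2, h3, h4, h5⟩ := simple_setup p m h hm hm1
  obtain ⟨M, hM⟩ := H86.exists_isPModular hp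
  have hF := faithful_sylow h2
  have big : ∀ χ, χ ≠ triv G → χ ∈ B.X ∨ χ ∈ B.Y →
      (if Nat.card S.V = 1 then 2 else 2 * p) ≤ dg χ := by
    intro χ h0 hχ
    split_ifs with hV
    · exact two_le_degree hG h0
    by_contra! hlt
    obtain ⟨P, hP⟩ := H35.exists_sylow_eq_zpowers S.hx S.hsq
    have h8 := S4729.result p M hM hG P χ (by rw [B.principalBlock_eq hM]; exact hχ)
      (simple_faithful h0) hlt
    rw [hP, H35.centralizer_zpowers, IsPGroup.iff_card, S.card_centralizer] at h8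
    obtain ⟨k, hk⟩ := h8
    obtain ⟨j, -, hj⟩ := (Nat.dvd_prime_pow hp).mp (Dvd.intro_left _ hk)
    exact S.not_dvd_card_sub S.V (hj ▸ dvd_pow_self p fun e => hV (by rw [hj, e, pow_zero]))
  have h8 := B.degree_eq' hB hφ
  obtain ⟨-, b2, b3, -⟩ := B.numY hB hG hφ
  have hpos : 0 < S.V.index * Nat.card (Sylow p G) :=
    Nat.mul_pos (Nat.pos_of_ne_zero index_ne_zero_of_finite) Nat.card_pos
  have hY : ∀ χ ∈ B.Y, dg χ = dg φ := fun χ hχ => by
    have := B.eq_on_regular hχ hφ (g := 1) (by simpa using hp.ne_one)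
    rw [cast_degree_irr, cast_degree_irr] at this
    exact_mod_cast this
  refine ⟨_, _, _, dg φ, ∑ χ ∈ B.X.erase (triv G), B.δ χ * dg χ,
    ∑ χ ∈ B.X.erase (triv G), (dg χ : ℤ) ^ 2, h5, h1, h2, card_dvd_factorial, h3, h4, ?_,
    big φ (B.ne_triv_of_mem_Y hB hφ) (Or.inr hφ), b2, ?_, ⟨φ, rfl⟩, fun hx => ?_, fun hV => ?_⟩
  · rw [← B.card_erase hB]
    refine sum_mem_sums _ _ _ _ fun χ hχ => ?_
    obtain ⟨-, a2, a3, a4⟩ := B.numX hG hχ
    exact mem_sl hp.one_lt hpos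
      (big χ (Finset.mem_erase.1 hχ).1 (Or.inl (Finset.mem_erase.1 hχ).2)) a2 a3 a4
  · rw [← h8]; rcases b3 with e | e <;> simp [e]
  · refine card_eq_one.2 (eq_bot_iff.2 fun k hk => ?_)
    have k1 := hx _ (S.dvd_orderOf_xp_mul one_ne_zero ⟨k, hk⟩)
    have k2 := (S.commute_xp 1 ⟨k, hk⟩).orderOf_mul_eq_mul_orderOf_of_coprime (by
      rw [S.xp_one, S.hx]; exact (Nat.Prime.coprime_iff_not_dvd hp).2 (S.not_dvd_orderOf k))
    rw [k1, S.xp_one, S.hx] at k2
    exact Subtype.ext (orderOf_eq_one_iff.1 ((Nat.mul_eq_left hp.ne_zero).1 k2.symm))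
  have hall : ∀ χ : IrrCharacter G, ¬ p ∣ dg χ → χ ∈ B.X ∨ χ ∈ B.Y := fun χ hχ => by
    obtain ⟨θ, i, hi, hθ⟩ := S.exists_psi_ne_zero (H5.isCharacter_of_isIrr χ.2) hχ
    have k1 := sq_degree_le {θ}
    rw [Finset.sum_singleton, hV] at k1
    have k2 := degree_pos θ
    have k3 : (θ : S.V → ℂ) = fun _ => 1 := funext fun v => by
      haveI := (Nat.card_eq_one_iff_unique.1 hV).1
      rw [Subsingleton.elim v 1, cast_degree_irr, show charDegree (θ : S.V → ℂ) = 1 by nlinarith,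
        Nat.cast_one]
    rw [k3] at hθ
    exact B.mem_of_psi_ne_zero hi hθ
  refine ⟨fun χ hχ => ?_, fun hχ => ?_⟩
  · rcases hall χ hχ with k | k
    · by_cases k1 : χ = triv G
      · exact Or.inl (k1 ▸ degree_triv)
      · exact Or.inr (Or.inl (Finset.single_le_sum (f := fun χ => (dg χ : ℤ) ^ 2)
          (fun _ _ => sq_nonneg _) (Finset.mem_erase.2 ⟨k1, k⟩)))
    · exact Or.inr (Or.inr (hY χ k))
  · rw [← sum_sq (B.X ∪ B.Y) fun χ => Finset.mem_union.2 (hall χ (hχ χ)), Finset.sum_union B.disj,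
      ← Finset.add_sum_erase _ _ hB,
      Finset.sum_congr (s₁ := B.Y) (g := fun _ => dg φ ^ 2) rfl fun χ hχ => by rw [hY χ hχ],
      Finset.sum_const, ← B.cardY', Nat.mul_div_cancel _
        (Nat.pos_of_ne_zero index_ne_zero_of_finite), show dg (triv G) = 1 from degree_triv]
    push_cast
    simp

/-- the admissible data `(v, e, n_p, d, t)` -/
def opts (n p : ℕ) : List (ℕ × ℕ × ℕ × ℕ × ℤ) :=
  (List.range (n / p + 1)).flatMap fun np => (List.range p).flatMap fun e =>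
    if np % p == 1 && np != 1 && Sieve.idxOK n np && e != 1 && (p - 1) % e == 0 &&
      (n / p) % (e * np) == 0 then
      ((sums (sl p (e * np) (if n / p / (e * np) = 1 then 2 else 2 * p)) (e - 1)).filter fun s =>
        decide ((if n / p / (e * np) = 1 then 2 else 2 * p) ≤ (1 + s.1).natAbs) &&
          (e * np) % (1 + s.1).natAbs == 0).map
        fun s => (n / p / (e * np), e, np, (1 + s.1).natAbs, s.2)
    else []

theorem blk_opts [IsSimpleGroup G] {n p : ℕ} (hp : p.Prime) (h : Nat.card G = n) (h1 : p ∣ n)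
    (hm : ¬ p ∣ n / p) (hm1 : n / p ≠ 1) : ∃ (v e np d : ℕ) (t : ℤ), (v, e, np, d, t) ∈ opts n p ∧
      (∃ χ : IrrCharacter G, dg χ = d) ∧
      ((∀ x : G, p ∣ orderOf x → orderOf x = p) → v = 1) ∧
      (v = 1 → (∀ χ : IrrCharacter G, ¬ p ∣ dg χ → dg χ = 1 ∨ (dg χ : ℤ) ^ 2 ≤ t ∨ dg χ = d) ∧
        ((∀ χ : IrrCharacter G, ¬ p ∣ dg χ) →
          (n : ℤ) = 1 + t + ((p - 1) / e : ℕ) * (d : ℤ) ^ 2)) := by
  obtain ⟨v, e, np, d, s, t, k1, k2, k3, k4, k5, k6, k7, k8, k9, k10, k11⟩ :=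
    blk_data hp (h.trans (Nat.mul_div_cancel' h1).symm) hm hm1
  rw [h] at k4 k11
  refine ⟨v, e, np, d, t, ?_, k11⟩
  have hpos : 0 < v * e * np := k1 ▸ Nat.pos_of_ne_zero fun e => hm (e ▸ dvd_zero p)
  have k12 : n / p / (e * np) = v := by
    rw [← k1, mul_assoc, Nat.mul_div_cancel _ (Nat.pos_of_mul_pos_left (mul_assoc v e np ▸ hpos))]
  have := hp.two_le
  refine List.mem_flatMap.2 ⟨np, List.mem_range.2 (Nat.lt_succ_of_le
    (Nat.le_of_dvd (k1 ▸ hpos) (Dvd.intro_left _ k1))), List.mem_flatMap.2 ⟨e, List.mem_range.2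
      (lt_of_le_of_lt (Nat.le_of_dvd (by omega) k6) (by omega)), ?_⟩⟩
  rw [if_pos (by simp [k2, k3, k5, Sieve.idxOK_of_dvd k4, Nat.mod_eq_zero_of_dvd k6,
    Nat.mod_eq_zero_of_dvd (Dvd.intro_left v (by rw [← k1, mul_assoc]) : e * np ∣ n / p)]), k12]
  exact List.mem_map.2 ⟨(s, t), List.mem_filter.2 ⟨k7, by
    simp only [← k10, k8, decide_true, Nat.mod_eq_zero_of_dvd k9, BEq.rfl, Bool.and_self]⟩,
    by rw [k10]⟩

theorem not_card_of_opts [IsSimpleGroup G] {n p : ℕ} (hp : p.Prime) (h1 : p ∣ n)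
    (hm : ¬ p ∣ n / p) (hm1 : n / p ≠ 1) (h : opts n p = []) : Nat.card G ≠ n := fun hc => by
  obtain ⟨v, e, np, d, t, k, -⟩ := blk_opts hp hc h1 hm hm1
  simp [h] at k

/-- a `p`-group normalising a `p'`-group all of whose Sylow subgroups are too small -/
theorem cent_of_num {p : ℕ} (hp : p.Prime) {P K : Subgroup G} (hP : IsPGroup p P)
    (hn : P ≤ normalizer (K : Set G)) (hK : ¬ p ∣ Nat.card K)
    (h : ∀ r i : ℕ, r.Prime → 0 < i → r ^ i ∣ Nat.card K → r ^ i % p ≠ 1) :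
    K ≤ centralizer (P : Set G) := by
  haveI := Fact.mk hp
  intro y hy x hx
  suffices k : K ≤ centralizer {x} from (mem_cent_iff.1 (k hy)).symm
  refine le_of_card_inf_eq (Nat.dvd_antisymm (card_inf_dvd_left _ _) ?_)
  refine (Nat.dvd_iff_prime_pow_dvd_dvd _ _).2 fun r i hr hi => ?_
  haveI := Fact.mk hr
  obtain ⟨a, ha⟩ := IsPGroup.iff_card.1 hP
  haveI := hP.isNilpotent
  obtain ⟨R, hR⟩ := H1.invariant_sylow_exists P K hn
    (ha ▸ ((Nat.Prime.coprime_iff_not_dvd hp).2 hK).pow_left _) (Or.inl inferInstance) r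
  set Q := (R : Subgroup K).map K.subtype
  have hQ : Q ≤ K := map_subtype_le _
  obtain ⟨b, hb⟩ := IsPGroup.iff_card.1 R.isPGroup'
  have hb' : Nat.card Q = r ^ b := by rw [← hb]; exact card_map_of_injective K.subtype_injective
  obtain ⟨c, hc, hc'⟩ := (Nat.dvd_prime_pow hr).1 (hb' ▸ card_inf_dvd_left Q (centralizer {x}))
  have k1 := modEq_cent (k := a) hp Q (x := x)
    (by rw [← ha]; exact orderOf_dvd_iff_pow_eq_one.1 (P.orderOf_dvd_natCard hx)) (hR hx)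
  have k2 : c = b := by
    by_contra hne
    obtain ⟨j, rfl⟩ := Nat.exists_eq_add_of_lt (hc.lt_of_ne hne)
    have k3 := (card_dvd_of_le hQ)
    rw [hb', add_assoc, pow_add] at k3
    refine h r (j + 1) hr j.succ_pos (Dvd.dvd.trans (dvd_mul_left _ _) k3) ?_
    rw [hb', hc', add_assoc, pow_add] at k1
    refine Eq.trans (Nat.ModEq.cancel_left_of_coprime (c := r ^ c) (b := 1) ?_ (by rwa [mul_one]))
      (Nat.mod_eq_of_lt hp.one_lt)
    exact (Nat.Prime.coprime_iff_not_dvd hp).2 fun e => hK ((e.mul_right _).trans k3)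
  refine Dvd.dvd.trans ?_ (card_dvd_of_le (inf_le_inf_right (centralizer {x}) hQ))
  rw [hc', k2, ← hb]
  exact R.pow_dvd_card_of_pow_dvd_card hi

end Cfsg.Agent.H73.Sm
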