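import Cfsg.Prelude.Def_DStar
import Cfsg.Agent.H69.StrongEmb
import Cfsg.Agent.H21.Basic
import Cfsg.Agent.H23.MaxAb

/-! The subgroup `D*(T)` of Glauberman and Solomon, for subgroups of an ambient group. -/

set_option autoImplicit false

namespace Cfsg.Agent.H73

open Subgroup Cfsg.Agent.H69

variable {G : Type*} [Group G]

theorem cl2_mono {X Y : Subgroup G} (h : X ≤ Y) (hY : ⁅⁅Y, Y⁆, Y⁆ = ⊥) : ⁅⁅X, X⁆, X⁆ = ⊥ :=
  le_bot_iff.1 ((commutator_mono (commutator_mono h h) h).trans hY.le)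

theorem commutator_self_eq_bot {X : Subgroup G} (hX : IsMulCommutative X) : ⁅X, X⁆ = ⊥ :=
  H21.commutator_eq_bot_iff'.2 (H21.le_centralizer_of_le_comm le_rfl le_rfl)

theorem cl2_sup_of_le {X Y K : Subgroup G} (hX : IsMulCommutative X) (hY : IsMulCommutative Y)
    (hXK : X ≤ centralizer (K : Set G)) (hYK : Y ≤ centralizer (K : Set G)) (h : ⁅X, Y⁆ ≤ K) :
    ⁅⁅X ⊔ Y, X ⊔ Y⁆, X ⊔ Y⁆ = ⊥ := by
  have h1 := H21.le_normalizer_of_le_centralizer hXK
  have h2 := H21.le_normalizer_of_le_centralizer hYK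
  have h3 : ⁅X ⊔ Y, X ⊔ Y⁆ ≤ K := by
    refine H21.commutator_sup_left_le h1 h2 (H21.commutator_sup_right_le h1 h2 ?_ h)
      (H21.commutator_sup_right_le h1 h2 ?_ ?_)
    · rw [commutator_self_eq_bot hX]; exact bot_le
    · rwa [commutator_comm]
    · rw [commutator_self_eq_bot hY]; exact bot_le
  rw [eq_bot_iff]
  refine (commutator_mono h3 le_rfl).trans (le_of_eq ?_)
  exact H21.commutator_eq_bot_iff'.2 (sup_le hXK hYK)

theorem cl2_sup_of_normalizes {X Y : Subgroup G} (hX : IsMulCommutative X) (hY : IsMulCommutative Y)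
    (h1 : X ≤ normalizer (Y : Set G)) (h2 : Y ≤ normalizer (X : Set G)) :
    ⁅⁅X ⊔ Y, X ⊔ Y⁆, X ⊔ Y⁆ = ⊥ := by
  refine cl2_sup_of_le (K := X ⊓ Y) hX hY (H21.le_centralizer_of_le_comm le_rfl inf_le_left)
    (H21.le_centralizer_of_le_comm le_rfl inf_le_right)
    (le_inf (H21.commutator_le_of_le_normalizer h2) ?_)
  rw [commutator_comm]; exact H21.commutator_le_of_le_normalizer h1

theorem cl2_of_quadratic {D Y : Subgroup G} (hD : IsMulCommutative D) (hY : IsMulCommutative Y)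
    (h : Y ≤ normalizer (D : Set G)) (hq : ⁅⁅D, Y⁆, Y⁆ = ⊥) : ⁅⁅D ⊔ Y, D ⊔ Y⁆, D ⊔ Y⁆ = ⊥ :=
  cl2_sup_of_le hD hY
    (H21.le_centralizer_of_le_comm le_rfl (H21.commutator_le_of_le_normalizer h))
    (H21.commutator_eq_bot_iff'.1 hq) le_rfl

/-- The family behind `D*(T)`, as subgroups of the ambient group. -/
def dFam (T : Subgroup G) : Set (Subgroup G) :=
  {A | A ≤ T ∧ IsMulCommutative A ∧ ∀ x ∈ T,
    ⁅⁅A ⊔ zpowers x, A ⊔ zpowers x⁆, A ⊔ zpowers x⁆ = ⊥ → ∀ a ∈ A, a * x = x * a}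

theorem dFam_mono {A R T : Subgroup G} (hA : A ∈ dFam T) (h1 : A ≤ R) (h2 : R ≤ T) : A ∈ dFam R :=
  ⟨h1, hA.2.1, fun x hx => hA.2.2 x (h2 hx)⟩

theorem map_mem_dFam_iff {H : Type*} [Group H] {f : G →* H} (hf : Function.Injective f)
    {A T : Subgroup G} : A.map f ∈ dFam (T.map f) ↔ A ∈ dFam T := by
  have key : ∀ x : G, ⁅⁅A.map f ⊔ zpowers (f x), A.map f ⊔ zpowers (f x)⁆,
      A.map f ⊔ zpowers (f x)⁆ = ⊥ ↔ ⁅⁅A ⊔ zpowers x, A ⊔ zpowers x⁆, A ⊔ zpowers x⁆ = ⊥ := by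
    intro x
    rw [← MonoidHom.map_zpowers, ← Subgroup.map_sup, ← map_commutator, ← map_commutator,
      map_eq_bot_iff_of_injective _ hf]
  refine and_congr (map_le_map_iff_of_injective hf) (and_congr (H23.isMulCommutative_map_iff hf) ?_)
  constructor
  · intro h x hx h1 a ha
    apply hf
    rw [map_mul, map_mul]
    exact h _ ⟨x, hx, rfl⟩ ((key x).2 h1) _ ⟨a, ha, rfl⟩
  · rintro h _ ⟨x, hx, rfl⟩ h1 _ ⟨a, ha, rfl⟩
    rw [← map_mul, ← map_mul, h x hx ((key x).1 h1) a ha]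

theorem cj_mem_dFam {A T : Subgroup G} (hA : A ∈ dFam T) {g : G} (hg : g ∈ normalizer (T : Set G)) :
    cj g A ∈ dFam T := by
  have := (map_mem_dFam_iff (f := (MulAut.conj g).toMonoidHom) (MulAut.conj g).injective).2 hA
  rwa [map_conj_eq_cj, map_conj_eq_cj, cj_eq_of_mem_normalizer hg] at this

theorem dFam_top : dFam (⊤ : Subgroup G) = dStarFamily G := by
  ext A
  exact ⟨fun h => ⟨h.2.1, fun x => h.2.2 x trivial⟩, fun h => ⟨le_top, h.1, fun x _ => h.2 x⟩⟩

theorem dStar_eq : dStar G = sSup (dFam (⊤ : Subgroup G)) := by rw [dFam_top]; rfl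

theorem dStarOf_eq (T : Subgroup G) : dStarOf T = sSup (dFam T) := by
  have h1 : (⊤ : Subgroup T).map T.subtype = T := by rw [← MonoidHom.range_eq_map, range_subtype]
  rw [dStarOf, dStar_eq, (gc_map_comap T.subtype).l_sSup]
  apply le_antisymm
  · refine iSup₂_le fun A hA => le_sSup ?_
    have := (map_mem_dFam_iff T.subtype_injective).2 hA
    rwa [h1] at this
  · refine sSup_le fun A hA => ?_
    have h2 : (A.subgroupOf T).map T.subtype = A := map_subgroupOf_eq_of_le hA.1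
    refine le_iSup₂_of_le (A.subgroupOf T) ?_ h2.ge
    rw [← map_mem_dFam_iff T.subtype_injective, h1, h2]
    exact hA

theorem sSup_dFam_le (T : Subgroup G) : sSup (dFam T) ≤ T := sSup_le fun _ hA => hA.1

theorem normalizer_le_normalizer_sSup_dFam (T : Subgroup G) :
    normalizer (T : Set G) ≤ normalizer ((sSup (dFam T) : Subgroup G) : Set G) := by
  refine le_normalizer_of_cj_le fun g hg => ?_
  rw [cj_le_iff]
  refine sSup_le fun A hA => ?_
  rw [← cj_le_iff]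
  exact le_sSup (cj_mem_dFam hA hg)

theorem exists_normal_proper_ge [Finite G] {p : ℕ} [Fact p.Prime] {A T : Subgroup G}
    (hT : IsPGroup p T) (h : A < T) : ∃ M, A ≤ M ∧ M < T ∧ T ≤ normalizer (M : Set G) := by
  obtain ⟨M, hAM, hM⟩ := Set.Finite.exists_le_maximal
    (Set.toFinite {M : Subgroup G | M < T}) (a := A) h
  refine ⟨M, hAM, hM.1, ?_⟩
  have h1 := H23.lt_normalizer_inf hT hM.1
  by_contra h2
  have h3 : normalizer (M : Set G) ⊓ T < T :=
    lt_of_le_of_ne inf_le_right fun h => h2 (h.ge.trans inf_le_left)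
  exact h1.not_ge (hM.2 h3 h1.le)

theorem sSup_dFam_mem [Finite G] {p : ℕ} [Fact p.Prime] {T : Subgroup G} (hT : IsPGroup p T) :
    sSup (dFam T) ∈ dFam T := by
  induction T using WellFoundedLT.induction with
  | ind T ih =>
  have h1 : ∀ A ∈ dFam T, ∃ X, A ≤ X ∧ X ≤ T ∧ IsMulCommutative X ∧ T ≤ normalizer (X : Set G) := by
    intro A hA
    rcases hA.1.eq_or_lt with h | h
    · exact ⟨A, le_rfl, hA.1, hA.2.1, h ▸ le_normalizer⟩
    · obtain ⟨M, hAM, hMT, hM⟩ := exists_normal_proper_ge hT h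
      exact ⟨_, le_sSup (dFam_mono hA hAM hMT.le), (sSup_dFam_le M).trans hMT.le,
        (ih M hMT (hT.to_le hMT.le)).2.1, hM.trans (normalizer_le_normalizer_sSup_dFam M)⟩
  have h2 : ∀ A ∈ dFam T, ∀ B ∈ dFam T, A ≤ centralizer (B : Set G) := by
    intro A hA B hB a ha
    obtain ⟨X, hAX, hXT, hX, hTX⟩ := h1 A hA
    obtain ⟨Y, hBY, hYT, hY, hTY⟩ := h1 B hB
    exact hB.2.2 a (hA.1 ha) (cl2_mono (sup_le_sup hBY ((zpowers_le.2 ha).trans hAX))
      (cl2_sup_of_normalizes hY hX (hYT.trans hTX) (hXT.trans hTY)))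
  refine ⟨sSup_dFam_le T, ?_, fun x hx h => ?_⟩
  · have : sSup (dFam T) ≤ centralizer ((sSup (dFam T) : Subgroup G) : Set G) :=
      sSup_le fun A hA => le_centralizer_iff.1 (sSup_le fun B hB => h2 B hB A hA)
    exact H23.isMulCommutative_of_comm fun a ha b hb => this hb a ha
  · have : sSup (dFam T) ≤ centralizer {x} := sSup_le fun A hA a ha => by
      rw [mem_centralizer_singleton_iff]
      exact hA.2.2 x hx (cl2_mono (sup_le_sup_right (le_sSup hA) _) h) a ha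
    exact fun a ha => mem_centralizer_singleton_iff.1 (this ha)

/-- A member of the family is centralized by every subgroup acting quadratically on it. -/
theorem le_centralizer_of_mem_dFam {D T Y : Subgroup G} (hD : D ∈ dFam T) (hY : Y ≤ T)
    (h : Y ≤ normalizer (D : Set G)) (hq : ⁅⁅D, Y⁆, Y⁆ = ⊥) : Y ≤ centralizer (D : Set G) := by
  intro y hy
  have h1 : zpowers y ≤ Y := zpowers_le.2 hy
  exact hD.2.2 y (hY hy) (cl2_of_quadratic hD.2.1 inferInstance (h1.trans h)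
    (le_bot_iff.1 ((commutator_mono (commutator_mono le_rfl h1) h1).trans hq.le)))

theorem le_centralizer_of_mem_dFam_of_normalizes {D T A : Subgroup G} (hD : D ∈ dFam T) (hA : A ≤ T)
    (hAc : IsMulCommutative A) (h : A ≤ normalizer (D : Set G)) (h' : D ≤ normalizer (A : Set G)) :
    A ≤ centralizer (D : Set G) := by
  refine le_centralizer_of_mem_dFam hD hA h (H21.commutator_eq_bot_iff'.2 ?_)
  refine H21.le_centralizer_of_le_comm le_rfl ?_
  rw [commutator_comm]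
  exact H21.commutator_le_of_le_normalizer h'

theorem center_mem_dFam (T : Subgroup G) : T ⊓ centralizer (T : Set G) ∈ dFam T :=
  ⟨inf_le_left, H23.isMulCommutative_of_comm fun _ ha _ hb => hb.2 _ ha.1,
    fun _ hx _ _ ha => (ha.2 _ hx).symm⟩

theorem sSup_dFam_le_of_mem_maxAb [Finite G] {p : ℕ} [Fact p.Prime] {T : Subgroup G}
    (hT : IsPGroup p T) {U : Subgroup G} (hU : U ∈ H23.maxAb 0 T) : sSup (dFam T) ≤ U := by
  by_contra h
  have hD := sSup_dFam_mem hT
  have hn := le_normalizer.trans (normalizer_le_normalizer_sSup_dFam T)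
  obtain ⟨A, hA, -, h2, h3⟩ := H23.exists_maxAb_normalized hT (Or.inr rfl) le_rfl le_normalizer
    hD.1 hn (fun _ => hD.2.1) hU (by rw [commutator_self_eq_bot hD.2.1]; exact bot_le) h
  have h4 := le_centralizer_of_mem_dFam_of_normalizes hD hA.1 hA.2.1 (hA.1.trans hn) h3
  exact h2 fun x hx =>
    H23.mem_of_mem_centralizer_maxAb hA (hD.1 hx) (pow_zero x) (le_centralizer_iff.1 h4 hx)

end Cfsg.Agent.H73
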