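/-
Isolated `p`-minimal subgroups (Meierfrankenfeld, Parker, Rowley).
-/
import Cfsg.Agent.H72.PMin
import Cfsg.Agent.H72.SylowIn
import Cfsg.Agent.H70.YL2
import Cfsg.Agent.H44.Layer
import Cfsg.Agent.H50.Maschke
import Cfsg.Agent.H46.PAction
import Cfsg.Agent.H49.Prod
import Cfsg.Agent.H21.PStab2

set_option autoImplicit false

namespace Cfsg.Agent.H73

open Subgroup H70
open scoped commutatorElement

variable {G : Type*} [Group G] {p : ℕ}

/-- the abstract situation of an isolated `p`-minimal subgroup -/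
structure Isol (p : ℕ) (S A E Y : Subgroup G) : Prop where
  pS : IsPGroup p S
  AS : A ≤ S
  SE : S ≤ normalizer (E : Set G)
  SA : S ≤ normalizer (A : Set G)
  EA : E ≤ ⁅E, A⁆
  ne : E ≠ ⊥
  dich : ∀ U : Subgroup G, S ≤ normalizer (U : Set G) → E ≤ U ∨ U ≤ normalizer (A : Set G)
  Y_eq : Y = normalClosure (E : Set G)
  sup : Y ⊔ normalizer (A : Set G) = ⊤

namespace Isol

variable {S A E Y : Subgroup G} (h : Isol p S A E Y)
include h

theorem normal : Y.Normal := h.Y_eq ▸ normalClosure_normal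

theorem le : E ≤ Y := h.Y_eq ▸ le_normalClosure

theorem Y_le {N : Subgroup G} (hN : N.Normal) (h1 : E ≤ N) : Y ≤ N :=
  h.Y_eq ▸ normalClosure_le_normal h1

theorem Y_ne : Y ≠ ⊥ := fun h1 => h.ne (eq_bot_iff.2 (h1 ▸ h.le))

theorem map {G' : Type*} [Group G'] (f : G →* G') (hf : Function.Surjective f) (hk : ¬ E ≤ f.ker) :
    Isol p (S.map f) (A.map f) (E.map f) (Y.map f) where
  pS := h.pS.map f
  AS := map_mono h.AS
  SE := norm_map f h.SE
  SA := norm_map f h.SA
  EA := by rw [← Subgroup.map_commutator]; exact map_mono h.EA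
  ne := fun h1 => hk ((Subgroup.map_eq_bot_iff _).1 h1)
  dich U hU := by
    rcases h.dich (U.comap f) (norm_comap f hU) with h1 | h1
    · exact Or.inl (map_le_iff_le_comap.2 h1)
    · exact Or.inr (by rw [← map_comap_eq_self_of_surjective hf U]; exact norm_map f h1)
  Y_eq := by rw [h.Y_eq, map_normalClosure _ _ hf, coe_map]
  sup := by
    rw [eq_top_iff, ← map_top_of_surjective f hf, ← h.sup, Subgroup.map_sup]
    exact sup_le_sup_left (le_normalizer_map f) _

theorem comm : ⁅Y, A⁆ = Y := by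
  have := h.normal
  refine le_antisymm (commutator_le_left _ _) (h.Y_le (normal_of_top_le_norm ?_)
    (h.EA.trans (commutator_mono h.le le_rfl)))
  rw [← h.sup]
  exact sup_le (normalizer_commutator_ge_left _ _) (norm_commutator norm_of_normal le_rfl)

theorem dich2 {U : Subgroup G} (hS : S ≤ normalizer (U : Set G)) (hU : pCoreOf p U = ⊥) :
    E ≤ U ∨ ⁅U, A⁆ = ⊥ := by
  refine (h.dich U hS).imp_right fun h1 => eq_bot_iff.2 (hU ▸ ?_)
  exact le_pCoreOf (commutator_le_left_of_norm (h.AS.trans hS)) (normalizer_commutator_ge_left _ _)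
    (h.pS.to_le ((commutator_le_right_of_norm h1).trans h.AS))

theorem comm_of_comm {U : Subgroup G} (hY : Y ≤ normalizer (U : Set G)) (hU : ⁅U, A⁆ = ⊥) :
    ⁅U, Y⁆ = ⊥ := by
  rw [comm_eq_bot_iff'] at hU ⊢
  rw [← h.comm]
  exact (commutator_mono le_rfl hU).trans (commutator_le_right_of_norm (norm_centralizer hY))

theorem dich3 {U : Subgroup G} (hn : U.Normal) (hU : pCoreOf p U = ⊥) : Y ≤ U ∨ ⁅U, Y⁆ = ⊥ :=
  (h.dich2 norm_of_normal hU).imp (h.Y_le hn) (h.comm_of_comm norm_of_normal)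

theorem dich4 (hO : pCoreOf p Y = ⊥) {U : Subgroup G} (hn : U.Normal) (hU : U ≤ Y) :
    Y ≤ U ∨ ⁅U, Y⁆ = ⊥ :=
  h.dich3 hn (eq_bot_iff.2 (hO ▸ pCoreOf_le_pCoreOf_of_norm hU norm_of_normal))

variable [Finite G] [hp : Fact p.Prime]

omit h in
theorem pCoreOf_eq_bot_of_not_dvd {U : Subgroup G} (hU : ¬ p ∣ Nat.card U) : pCoreOf p U = ⊥ := by
  by_contra h1
  obtain ⟨n, hn⟩ := (pCoreOf_isPGroup (p := p) U).exists_card_eq
  refine hU (dvd_trans ?_ (card_dvd_of_le (pCoreOf_le (p := p) U)))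
  rw [hn]
  refine dvd_pow_self p ?_
  rintro rfl
  exact h1 (card_eq_one.1 hn)

theorem eq_of_elem {t : ℕ} [ht : Fact t.Prime] (htp : t ≠ p) (hY : IsElementaryAbelian t Y) :
    Y ≤ E := by
  have := h.normal
  obtain ⟨n, hn⟩ := h.pS.exists_card_eq
  obtain ⟨W, h1, h2, h3, h4⟩ := H50.maschke (A := S) hY norm_of_normal
    (by rw [hn]; exact ((Nat.coprime_primes hp.out ht.out).2 htp.symm).pow_left n) h.le h.SE
  obtain ⟨m, hm⟩ := ((IsElementaryAbelian_isPGroup hY).to_le h1).exists_card_eq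
  rcases h.dich2 h2 (pCoreOf_eq_bot_of_not_dvd (by
    rw [hm]
    exact fun h5 => htp ((Nat.prime_dvd_prime_iff_eq hp.out ht.out).1
      (hp.out.dvd_of_dvd_pow h5)).symm)) with h5 | h5
  · exact absurd (h3 ▸ (inf_eq_left.2 h5).symm) h.ne
  · have hY' : Y ≤ centralizer (Y : Set G) := le_centralizer_iff_isMulCommutative.2 hY.1
    rw [← h.comm, ← h4]
    exact comm_sup_le le_normalizer (norm_of_cent (h1.trans (hY'.trans (cent_anti h.le))))
      (commutator_le_left_of_norm (h.AS.trans h.SE)) (h5 ▸ bot_le)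

theorem of_isPGroup {t : ℕ} [ht : Fact t.Prime] (htp : t ≠ p) (hY : IsPGroup t Y) : E = Y := by
  have := h.normal
  set F := (frattini Y).map Y.subtype with hF
  have hEF : ¬ E ≤ (QuotientGroup.mk' F).ker := fun h1 => by
    rw [QuotientGroup.ker_mk'] at h1
    exact h.Y_ne (eq_of_sup_le_frattini (h.Y_le inferInstance h1) bot_le le_sup_right).symm
  have h1 := (h.map _ (QuotientGroup.mk'_surjective F) hEF).eq_of_elem htp
    (H21.isElementaryAbelian_map_mk_frattini hY)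
  rw [Subgroup.map_le_map_iff, QuotientGroup.ker_mk'] at h1
  exact eq_of_sup_le_frattini le_rfl h.le h1

theorem of_not_dvd (hY : ¬ p ∣ Nat.card Y) : ∃ t : ℕ, t.Prime ∧ t ≠ p ∧ IsPGroup t Y := by
  have := h.normal
  have h1 : ∀ t : ℕ, t.Prime → ∃ T, H92.SylIn t T Y ∧ S ≤ normalizer (T : Set G) ∧
      (E ≤ T ∨ T ≤ centralizer (A : Set G)) := fun t ht => by
    have := Fact.mk ht
    obtain ⟨Q, hQ⟩ := H46.exists_invariant_sylow h.pS hY norm_of_normal t
    refine ⟨_, H92.sylIn_of_sylow Q, hQ, (h.dich2 hQ (pCoreOf_eq_bot_of_not_dvd fun h1 =>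
      hY (h1.trans (card_dvd_of_le (map_subtype_le _))))).imp_right comm_eq_bot_iff.1⟩
  choose T hT hST hdi using h1
  obtain ⟨t, ht, hET⟩ : ∃ t : ℕ, ∃ ht : t.Prime, E ≤ T t ht := by
    by_contra h2
    push Not at h2
    refine h.Y_ne ?_
    rw [← h.comm, comm_eq_bot_iff]
    exact H72.le_of_forall_sylIn fun t ht => ⟨T t ht, hT t ht, (hdi t ht).resolve_left (h2 t ht)⟩
  have := Fact.mk ht
  have h2 : ((T t ht).relIndex Y).Coprime ((Y ⊓ centralizer (A : Set G)).relIndex Y) := by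
    refine Nat.coprime_of_dvd fun r hr h2 h3 => ?_
    have := Fact.mk hr
    have hrt : r ≠ t := by
      rintro rfl
      exact (hT r hr).not_dvd_relIndex h2
    have h4 : T r hr ≤ Y ⊓ centralizer (A : Set G) := by
      refine le_inf (hT r hr).le ((hdi r hr).resolve_left fun h5 => h.ne ?_)
      exact eq_bot_iff.2 ((le_inf h5 hET).trans (disjoint_iff_inf_le.1
        (IsPGroup.disjoint_of_ne r t hrt _ _ (hT r hr).2 (hT t ht).2)))
    exact (hT r hr).not_dvd_relIndex (h3.trans (relIndex_dvd_of_le_left Y h4))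
  have h3 := H49.isProd_of_coprime_relIndex (hT t ht).le inf_le_left h2
  have h4 : Y ≤ T t ht := by
    rw [← h.comm, commutator_le]
    intro y hy a ha
    obtain ⟨u, hu, c, hc, rfl⟩ := h3.2.2 y hy
    have h5 : ⁅u * c, a⁆ = u * (a * u⁻¹ * a⁻¹) := by
      rw [commutatorElement_def, mul_assoc u c a, ← mem_centralizer_iff.1 hc.2 a ha]; group
    rw [h5]
    exact mul_mem hu (conj_mem_of_mem_norm (hST t ht (h.AS ha)) (inv_mem hu))
  refine ⟨t, ht, ?_, (hT t ht).2.to_le h4⟩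
  rintro rfl
  obtain ⟨n, hn⟩ := ((hT t ht).2.to_le h4).exists_card_eq
  refine hY (hn ▸ dvd_pow_self t ?_)
  rintro rfl
  exact h.Y_ne (card_eq_one.1 hn)

theorem class_two (hO : pCoreOf p Y = ⊥) (hs : Group.IsSolvable Y) : ⁅⁅Y, Y⁆, Y⁆ = ⊥ := by
  have := h.normal
  exact (h.dich4 hO inferInstance (commutator_le_left _ _)).resolve_left fun h1 =>
    h.Y_ne (H44.eq_bot_of_perfect_of_solvable (le_antisymm (commutator_le_left _ _) h1) hs)

omit h in
theorem not_dvd_of_nilpotent (hO : pCoreOf p Y = ⊥) (hY : Group.IsNilpotent Y) :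
    ¬ p ∣ Nat.card Y := by
  obtain ⟨Q⟩ : Nonempty (Sylow p Y) := inferInstance
  have h1 : (Q : Subgroup Y).Normal := Sylow.normal_of_normalizerCondition
    Group.normalizerCondition_of_isNilpotent Q
  have h2 : (Q : Subgroup Y) = ⊥ :=
    eq_bot_iff.2 (pCoreOf_eq_bot_iff.1 hO ▸ le_pCore h1 Q.isPGroup')
  have h3 := Q.not_dvd_index
  rwa [h2, index_bot] at h3

theorem Eof_eq (hO : pCoreOf p Y = ⊥) (hd : p ∣ Nat.card Y) : H44.Eof Y = Y := by
  have := h.normal
  have h1 : ¬ Y ≤ H44.Fof Y := fun h1 => not_dvd_of_nilpotent hO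
    ((le_antisymm (H44.Fof_le Y) h1) ▸ H44.Fof_isNilpotent Y) hd
  have h2 := (h.dich4 hO (normal_of_top_le_norm (norm_of_normal.trans
    (H44.normalizer_le_normalizer_Fof Y))) (H44.Fof_le Y)).resolve_left h1
  refine le_antisymm (H44.Eof_le Y) ((h.dich4 hO (normal_of_top_le_norm (norm_of_normal.trans
    (H44.normalizer_le_normalizer_Eof Y))) (H44.Eof_le Y)).resolve_right fun h3 => h1 ?_)
  refine le_trans (le_inf le_rfl ?_) (H44.inf_centralizer_FSof_le_Fof Y)
  rw [← comm_eq_bot_iff', H44.FSof_eq]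
  exact H44.commutator_sup_left_eq_bot h3 h2

theorem not_dvd_of_solvable (hO : pCoreOf p Y = ⊥) (hs : Group.IsSolvable Y) :
    ¬ p ∣ Nat.card Y := fun hd =>
  h.Y_ne ((h.Eof_eq hO hd).symm.trans (H44.Eof_eq_bot_of_solvable hs))

theorem trans (hO : pCoreOf p Y = ⊥) (hd : p ∣ Nat.card Y) {K₁ K₂ : Subgroup G}
    (h1 : H44.Comp Y K₁) (h2 : H44.Comp Y K₂) : ∃ s ∈ S, K₂ = cj s K₁ := by
  have := h.normal
  have hE := h.Eof_eq hO hd
  have hc : ∀ K K', H44.Comp Y K → H44.Comp Y K' → (∀ s ∈ S, K ≠ cj s K') → ⁅K, E⁆ = ⊥ := by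
    intro K K' hK hK' hne
    have h3 : ∀ s : S, H44.Comp Y (cj (s : G) K') := fun s => hK'.conj (norm_of_normal (mem_top _))
    have h4 : Y ≤ normalizer ((⨆ s : S, cj (s : G) K' : Subgroup G) : Set G) :=
      H72.le_normalizer_of_cj_le fun g hg => by
        rw [H72.cj_iSup]
        exact iSup_mono fun s => (cj_eq_self ((h3 s).Eof_le_normalizer (hE.symm ▸ hg))).le
    have h5 : S ≤ normalizer ((⨆ s : S, cj (s : G) K' : Subgroup G) : Set G) :=
      H72.le_normalizer_of_cj_le fun g hg => by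
        rw [H72.cj_iSup]
        exact iSup_le fun s => (cj_mul g s K').ge.trans
          (le_iSup (fun s : S => cj (s : G) K') ⟨g * s, mul_mem hg s.2⟩)
    rcases h.dich2 h5 (eq_bot_iff.2 (hO ▸ pCoreOf_le_pCoreOf_of_norm
      (iSup_le fun s => (h3 s).le) h4)) with h6 | h6
    · rw [comm_eq_bot_iff']
      exact h6.trans (iSup_le fun s =>
        comm_eq_bot_iff'.1 (hK.commutator_eq_bot_of_ne (h3 s) (hne s s.2)))
    · refine absurd (H44.commutator_eq_bot_mono (h.comm_of_comm h4 h6) ?_ hK'.le)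
        hK'.qs.commutator_ne_bot
      exact (cj_one K').ge.trans (le_iSup (fun s : S => cj (s : G) K') 1)
  by_contra h3
  push Not at h3
  have h4 : ⁅H44.Eof Y, E⁆ = ⊥ := H44.commutator_Eof_eq_bot fun K hK => by
    by_cases h4 : ∃ s ∈ S, K = cj s K₂
    · obtain ⟨s, hs, rfl⟩ := h4
      refine hc _ _ hK h1 fun s' hs' h5 => h3 (s⁻¹ * s') (mul_mem (inv_mem hs) hs') ?_
      rw [cj_mul, ← h5, cj_inv_cj]
    · push Not at h4
      exact hc _ _ hK h2 h4
  rw [hE, comm_eq_bot_iff'] at h4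
  exact h1.qs.not_le_centralizer (h1.le.trans ((h.Y_le inferInstance h4).trans (cent_anti h1.le)))

end Isol

section

variable [Finite G] [hp : Fact p.Prime]

theorem exists_minOver' (S : Sylow p G) {P : Subgroup G} (h1 : (S : Subgroup G) ≤ P)
    (h2 : IsPMinimal p P) : ∃ M, MinOver (S : Subgroup G) P M := by
  obtain ⟨T, hT⟩ := (H72.isSylowIn_sylow S h1).exists_sylow_map
  obtain ⟨-, M, ⟨h3, h4⟩, -⟩ := h2 T
  exact ⟨_, hT ▸ H72.minOver_of_isPMinimal_sub h2 T h3 h4⟩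

theorem mcbride (S : Sylow p G) {M : Subgroup G} (hN : normalizer ((S : Subgroup G) : Set G) ≤ M)
    (K : Subgroup G) : (S : Subgroup G) ≤ K →
    (∀ P : Subgroup G, (S : Subgroup G) ≤ P → P ≤ K → IsPMinimal p P → P ≤ M) → K ≤ M := by
  induction K using WellFoundedLT.induction with
  | ind K ih =>
    intro hK h
    by_contra hc
    have h1 := H72.minOver_of_uniq (sylIn_of_le S hK) (L₀ := K ⊓ M)
      (le_inf hK (le_normalizer.trans hN))
      (lt_of_le_of_ne inf_le_left fun h => hc (inf_eq_left.1 h))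
      (fun X h1 h2 => le_inf h2.le (ih X h2 h1 fun P h3 h4 => h P h3 (h4.trans h2.le)))
      (fun h => hc (h.trans hN))
    exact hc (h K hK le_rfl (H72.isPMinimal_of_minOver (sylIn_of_le S hK) h1))

theorem isol_of (S : Sylow p G) {P L Y : Subgroup G} (hSP : (S : Subgroup G) ≤ P)
    (hP : IsPMinimal p P)
    (hL : L = normalizer ((S : Subgroup G) : Set G) ⊔ ⨆ P' : {P' : Subgroup G //
      (S : Subgroup G) ≤ P' ∧ IsPMinimal p P' ∧ P' ≠ P}, (P' : Subgroup G))
    (hiso : ¬ pCoreOf p L ≤ pCoreOf p P)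
    (hY : Y = normalClosure ((pResidualOf p P : Subgroup G) : Set G)) :
    Isol p (S : Subgroup G) (pCoreOf p L) (pResidualOf p P) Y ∧ Y ⊔ L = ⊤ ∧
      ¬ IsPGroup p (pResidualOf p P) := by
  obtain ⟨M, hM⟩ := exists_minOver' S hSP hP
  have hNL : normalizer ((S : Subgroup G) : Set G) ≤ L := hL ▸ le_sup_left
  have hSL : (S : Subgroup G) ≤ L := le_normalizer.trans hNL
  have hPL : ∀ P' : Subgroup G, (S : Subgroup G) ≤ P' → IsPMinimal p P' → P' ≠ P → P' ≤ L :=
    fun P' h1 h2 h3 => hL ▸ le_sup_of_le_right (le_iSup (fun P' : {P' : Subgroup G //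
      (S : Subgroup G) ≤ P' ∧ IsPMinimal p P' ∧ P' ≠ P} => (P' : Subgroup G)) ⟨P', h1, h2, h3⟩)
  have hAS := pCoreOf_le_sylIn (sylIn_of_le S hSL)
  have hnp : ¬ IsPGroup p (pResidualOf p P) := fun h =>
    hM.not_le_pCoreOf S.isPGroup' (by rwa [pCoreOf_eq_self (isPGroup_of_pRes_le le_rfl h)])
  have hsup : Y ⊔ L = ⊤ := by
    refine eq_top_iff.2 (mcbride S (hNL.trans le_sup_right) ⊤ le_top fun P' h1 _ h2 => ?_)
    by_cases h3 : P' = P
    · rw [h3, ← pRes_sup_sylIn (sylIn_of_le S hSP)]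
      exact sup_le_sup (hY ▸ le_normalClosure) hSL
    · exact (hPL P' h1 h2 h3).trans le_sup_right
  refine ⟨⟨S.isPGroup', hAS, hSP.trans (le_norm_pRes P), hSL.trans (le_norm_pCoreOf L),
    ((hM.pIrr S.isPGroup').comm_pRes (sylIn_of_le S hSP) hAS (hSL.trans (le_norm_pCoreOf L))
      hiso).ge, fun h => hnp (h ▸ IsPGroup.of_bot), fun U hU => ?_, hY,
    eq_top_iff.2 (hsup ▸ sup_le_sup_left (le_norm_pCoreOf L) _)⟩, hsup, hnp⟩
  by_cases h1 : P ≤ U ⊔ (S : Subgroup G)
  · exact Or.inl ((pRes_mono h1).trans (pRes_sup_le_of_isPGroup S.isPGroup' hU))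
  · exact Or.inr (le_sup_left.trans ((mcbride S hNL _ le_sup_right fun P' h2 h3 h4 =>
      hPL P' h2 h4 fun h5 => h1 (h5 ▸ h3)).trans (le_norm_pCoreOf L)))

theorem eq_of_le_sup {P Y : Subgroup G} (hY : Y = normalClosure ((pResidualOf p P : Subgroup G) : Set G))
    {Q : Subgroup G} (hQ : IsPGroup p Q) (hQP : Q ≤ P) (h : Y ≤ pResidualOf p P ⊔ Q) :
    pResidualOf p P = Y := by
  have hn : Y.Normal := hY ▸ normalClosure_normal
  refine le_antisymm (hY ▸ le_normalClosure) (le_trans ?_ ((pRes_mono h).trans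
    (pRes_sup_le_of_isPGroup hQ (hQP.trans (le_norm_pRes P)))))
  have : (pResidualOf p Y).Normal := normal_of_top_le_norm (norm_pRes norm_of_normal)
  have h1 : pResidualOf p P ≤ pResidualOf p Y := pRes_le_pRes_of_le (hY ▸ le_normalClosure)
  exact hY.le.trans (normalClosure_le_normal h1)

end

/-- `Y / O_p(Y)` is the image of `Y` in `G / O_p(Y)` -/
theorem exists_equiv_map {G' : Type*} [Group G'] (f : G →* G') {Y : Subgroup G} (N : Subgroup Y)
    [N.Normal] (hk : f.ker = N.map Y.subtype) : ∃ e : (Y ⧸ N) ≃* Y.map f,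
      ∀ y : Y, (e (QuotientGroup.mk' N y) : G') = f y := by
  refine ⟨(QuotientGroup.quotientMulEquivOfEq ?_).trans
    (QuotientGroup.quotientKerEquivOfSurjective _ (f.subgroupMap_surjective Y)), fun y => rfl⟩
  ext y
  rw [MonoidHom.mem_ker, Subtype.ext_iff]
  change _ ↔ (y : G) ∈ f.ker
  rw [hk]
  exact (mem_map_iff_mem Y.subtype_injective).symm

end Cfsg.Agent.H73
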