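/-
Solvability of the outer automorphism group from the action on a Sylow 2-subgroup.
-/
import Cfsg.Prelude.Def_KGroupFacts
import Cfsg.Agent.S0227

set_option autoImplicit false

namespace Cfsg.Agent.H73

open Subgroup

variable {G : Type*} [Group G]

/-- the automorphisms of `G` stabilizing the subgroup `S` -/
def autStab (S : Subgroup G) : Subgroup (MulAut G) where
  carrier := {φ | ∀ g, g ∈ S ↔ φ g ∈ S}
  mul_mem' := by
    intro a b ha hb g
    exact (hb g).trans (ha (b g))
  one_mem' := fun _ => Iff.rfl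
  inv_mem' := by
    intro a ha g
    have := ha (a⁻¹ g)
    rw [MulAut.apply_inv_self] at this
    exact this.symm

theorem mem_autStab {S : Subgroup G} {φ : MulAut G} : φ ∈ autStab S ↔ ∀ g, g ∈ S ↔ φ g ∈ S :=
  Iff.rfl

/-- restriction of automorphisms to `S` -/
def autRes (S : Subgroup G) : autStab S →* MulAut S where
  toFun φ :=
    { toFun := fun s => ⟨φ.1 s, (φ.2 s).1 s.2⟩
      invFun := fun s => ⟨(φ⁻¹).1 s, ((φ⁻¹).2 s).1 s.2⟩
      left_inv := fun s => Subtype.ext (MulAut.inv_apply_self G φ.1 s)
      right_inv := fun s => Subtype.ext (MulAut.apply_inv_self G φ.1 s)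
      map_mul' := fun _ _ => Subtype.ext (map_mul φ.1 _ _) }
  map_one' := rfl
  map_mul' _ _ := rfl

theorem autRes_apply {S : Subgroup G} (φ : autStab S) (s : S) : (autRes S φ s : G) = φ.1 s := rfl

theorem conj_mem_autStab {S : Subgroup G} {g : G} (hg : g ∈ normalizer (S : Set G)) :
    MulAut.conj g ∈ autStab S := fun x => mem_normalizer_iff.1 hg x

theorem autStab_surj [Finite G] {p : ℕ} [Fact p.Prime] (S : Sylow p G) :
    Function.Surjective ((QuotientGroup.mk' (Inn G)).comp (autStab (S : Subgroup G)).subtype) := by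
  intro x
  obtain ⟨φ, rfl⟩ := QuotientGroup.mk'_surjective _ x
  obtain ⟨g, hg⟩ := MulAction.exists_smul_eq G (S.comapOfInjective φ.symm.toMonoidHom
    φ.symm.injective (by rw [MonoidHom.range_eq_top.2 φ.symm.surjective]; exact le_top)) S
  refine ⟨⟨MulAut.conj g * φ, fun y => ?_⟩, ?_⟩
  · conv_rhs => rw [← hg]
    rw [Sylow.coe_subgroup_smul, mem_pointwise_smul_iff_inv_smul_mem]
    change _ ↔ φ.symm _ ∈ (S : Subgroup G)
    simp [mul_assoc]
  · change QuotientGroup.mk' (Inn G) (MulAut.conj g * φ) = _
    rw [map_mul, (QuotientGroup.eq_one_iff _).2 ⟨g, rfl⟩ |> fun h : QuotientGroup.mk' (Inn G)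
      (MulAut.conj g) = 1 => h, one_mul]

theorem out_solvable_of_range [Finite G] [IsSimpleGroup G] (S : Sylow 2 G)
    (hS1 : (S : Subgroup G) ≠ ⊥) (h : Group.IsSolvable (autRes (S : Subgroup G)).range) :
    Group.IsSolvable (Out G) := by
  have hO : ∀ N : Subgroup G, N.Normal → Odd (Nat.card N) → N = ⊥ := fun N hN ho => by
    rcases hN.eq_bot_or_eq_top with h1 | h1
    · exact h1
    · exfalso
      rw [h1, card_top] at ho
      obtain ⟨n, hn⟩ := S.isPGroup'.exists_card_eq
      have h2 := (ho.of_dvd_nat (S : Subgroup G).card_subgroup_dvd_card)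
      rw [hn] at h2
      rcases n with _ | n
      · exact hS1 (card_eq_one.1 hn)
      · exact absurd h2 (by simp [Nat.odd_pow_iff])
  let C := (autRes (S : Subgroup G)).ker.map (autStab (S : Subgroup G)).subtype
  have hC : Group.IsSolvable C := (S0227.result hO S C (by
    intro φ
    constructor
    · rintro ⟨ψ, hψ, rfl⟩ s hs
      exact congrArg (fun a : MulAut (S : Subgroup G) => (a ⟨s, hs⟩ : G)) (MonoidHom.mem_ker.1 hψ)
    · intro hφ
      refine ⟨⟨φ, fun g => ⟨fun hg => by rwa [hφ g hg], fun hg => ?_⟩⟩, ?_, rfl⟩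
      · rwa [← φ.injective (hφ _ hg)]
      · change _ ∈ MonoidHom.ker _
        rw [MonoidHom.mem_ker]
        ext s
        exact hφ s s.2)).2
  have hK : Group.IsSolvable (autRes (S : Subgroup G)).ker :=
    Group.isSolvable_of_surjective (f := (equivMapOfInjective _ _
      (autStab (S : Subgroup G)).subtype_injective).symm.toMonoidHom) (MulEquiv.surjective _)
  have hN : Group.IsSolvable (autStab (S : Subgroup G)) :=
    Group.isSolvable_of_ker_le_range (autRes (S : Subgroup G)).ker.subtype
      (autRes (S : Subgroup G)).rangeRestrict (by simp)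
  exact Group.isSolvable_of_surjective (autStab_surj S)

end Cfsg.Agent.H73
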