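/-
The P(G,V)-theorem, part 1: diagonal subgroups and general lemmas.
-/
import Cfsg.Agent.H21.Timmesfeld
import Cfsg.Agent.H44.Components
import Cfsg.Agent.H72.Conj
import Cfsg.Agent.H5.Burnside

set_option autoImplicit false

namespace Cfsg.Agent.H73

open Subgroup H72
open scoped commutatorElement

variable {G : Type*} [Group G]

/-- the product `x * x^a * ... * x^(a^(n-1))` -/
def dg (a : G) (n : ℕ) (x : G) : G := (x * a) ^ n * (a ^ n)⁻¹

theorem dg_zero (a x : G) : dg a 0 x = 1 := by simp [dg]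

theorem dg_succ (a x : G) (n : ℕ) : dg a (n + 1) x = dg a n x * (a ^ n * x * (a ^ n)⁻¹) := by
  simp only [dg, pow_succ (x * a), pow_succ' a]; group

theorem dg_succ' (a x : G) (n : ℕ) : dg a (n + 1) x = x * (a * dg a n x * a⁻¹) := by
  simp only [dg, pow_succ' (x * a), pow_succ' a]; group

theorem dg_mem {a x : G} {n : ℕ} {H : Subgroup G} (h : ∀ i < n, a ^ i * x * (a ^ i)⁻¹ ∈ H) :
    dg a n x ∈ H := by
  induction n with
  | zero => rw [dg_zero]; exact one_mem _
  | succ n ih =>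
    rw [dg_succ]
    exact mul_mem (ih fun i hi => h i (by omega)) (h n (by omega))

theorem dg_conj {a g : G} (h : g * a = a * g) (n : ℕ) (x : G) :
    g * dg a n x * g⁻¹ = dg a n (g * x * g⁻¹) := by
  have h1 : g * a * g⁻¹ = a := by rw [h]; group
  have h2 : g * a ^ n * g⁻¹ = a ^ n := by rw [← conj_pow, h1]
  have h3 : g * x * g⁻¹ * a = g * (x * a) * g⁻¹ := by conv_lhs => rw [← h1]
                                                      group
  rw [dg, dg, h3, conj_pow]
  calc g * ((x * a) ^ n * (a ^ n)⁻¹) * g⁻¹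
      = g * (x * a) ^ n * g⁻¹ * (g * a ^ n * g⁻¹)⁻¹ := by group
    _ = _ := by rw [h2]

theorem dg_mul {a x y : G} {n : ℕ}
    (h : ∀ i j, i < j → j < n → Commute (a ^ i * y * (a ^ i)⁻¹) (a ^ j * x * (a ^ j)⁻¹)) :
    dg a n (x * y) = dg a n x * dg a n y := by
  induction n with
  | zero => simp [dg_zero]
  | succ n ih =>
    rw [dg_succ, dg_succ, dg_succ, ih fun i j hij hj => h i j hij (by omega)]
    have h1 : dg a n y ∈ centralizer {a ^ n * x * (a ^ n)⁻¹} :=
      dg_mem fun i hi => mem_centralizer_singleton_iff.2 (h i n hi (by omega))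
    rw [mem_centralizer_singleton_iff] at h1
    calc dg a n x * dg a n y * (a ^ n * (x * y) * (a ^ n)⁻¹)
        = dg a n x * (dg a n y * (a ^ n * x * (a ^ n)⁻¹)) * (a ^ n * y * (a ^ n)⁻¹) := by group
      _ = _ := by rw [h1]; group

theorem dg_eq_mul {a x : G} {n : ℕ} (hn : n ≠ 0) {H : Subgroup G}
    (h : ∀ i, 0 < i → i < n → a ^ i * x * (a ^ i)⁻¹ ∈ H) : ∃ r ∈ H, dg a n x = x * r := by
  obtain ⟨n, rfl⟩ := Nat.exists_eq_succ_of_ne_zero hn
  refine ⟨_, ?_, dg_succ' a x n⟩
  rw [dg_conj rfl]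
  refine dg_mem fun i hi => ?_
  have := h (i + 1) (by omega) (by omega)
  rw [pow_succ] at this
  convert this using 1; group

theorem dg_comm {a x : G} {n : ℕ} (hn : n ≠ 0) (ha : a ^ n = 1)
    (h : ∀ i, 0 < i → i < n → Commute (a ^ i * x * (a ^ i)⁻¹) x) : a * dg a n x = dg a n x * a := by
  obtain ⟨n, rfl⟩ := Nat.exists_eq_succ_of_ne_zero hn
  have h1 : a * dg a n x * a⁻¹ ∈ centralizer {x} := by
    rw [dg_conj rfl]
    refine dg_mem fun i hi => mem_centralizer_singleton_iff.2 ?_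
    have := h (i + 1) (by omega) (by omega)
    rw [pow_succ] at this
    have h2 : a ^ i * (a * x * a⁻¹) * (a ^ i)⁻¹ = a ^ i * a * x * (a ^ i * a)⁻¹ := by group
    rw [h2]; exact this
  rw [mem_centralizer_singleton_iff] at h1
  rw [← mul_inv_eq_iff_eq_mul]
  conv_rhs => rw [dg_succ', ← h1]
  rw [dg_succ]
  have h3 : a * (a ^ n * x * (a ^ n)⁻¹) * a⁻¹ = x := by
    calc a * (a ^ n * x * (a ^ n)⁻¹) * a⁻¹ = a ^ (n + 1) * x * (a ^ (n + 1))⁻¹ := by
          rw [pow_succ']; group
      _ = x := by rw [ha]; group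
  calc a * (dg a n x * (a ^ n * x * (a ^ n)⁻¹)) * a⁻¹
      = a * dg a n x * a⁻¹ * (a * (a ^ n * x * (a ^ n)⁻¹) * a⁻¹) := by group
    _ = _ := by rw [h3]

theorem Comp.le_of_mul_mem {X L U : Subgroup G} (hL : H44.Comp X L) (hU : U ≤ X)
    (hn : L ≤ normalizer (U : Set G)) {l r : G} (hr : r ∈ centralizer (L : Set G))
    (hl : l ∉ centralizer (L : Set G)) (hy : l * r ∈ U) : L ≤ U := by
  refine (hL.le_or_commutator_eq_bot_of_le_normalizer hU hn).resolve_right fun h => hl ?_
  have := H21.commutator_eq_bot_iff'.1 h hy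
  simpa using mul_mem this (inv_mem hr)

theorem mem_normalizer_commStab [Finite G] {V W : Subgroup G} {g : G}
    (h1 : g ∈ normalizer (V : Set G)) (h2 : g ∈ normalizer (W : Set G)) :
    g ∈ normalizer (H21.commStab V W : Set G) := by
  refine mem_normalizer_of_conj_mem fun s hs => ⟨mul_mem (mul_mem h2 hs.1) (inv_mem h2), ?_⟩
  intro v hv
  have := conj_mem_of_mem_normalizer h2 (hs.2 _ (conj_mem_of_mem_normalizer' h1 hv))
  convert this using 1
  simp only [commutatorElement_def]; group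

theorem mem_centralizer_of_perfect {K : Subgroup G} (hK : ⁅K, K⁆ = K) {b : G}
    (hb : b ∈ normalizer (K : Set G)) (h : ∀ l ∈ K, ⁅b, l⁆ ∈ centralizer (K : Set G)) :
    b ∈ centralizer (K : Set G) := by
  have h1 : zpowers b ≤ H21.commStab K (centralizer (K : Set G)) :=
    zpowers_le.2 ⟨H21.normalizer_le_normalizer_centralizer K hb, h⟩
  have h2 := (H21.le_commStab.1 h1).2
  have h3 := H44.commutator_eq_bot_of_perfect (U := zpowers b) hK (by
    rw [commutator_comm, H21.commutator_eq_bot_iff']; exact h2)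
  rw [commutator_comm, H21.commutator_eq_bot_iff'] at h3
  exact h3 (mem_zpowers b)

theorem commutator_mem_centralizer_of_isCyclic {U : Subgroup G} (hU : IsCyclic U) {g h : G}
    (hg : g ∈ normalizer (U : Set G)) (hh : h ∈ normalizer (U : Set G)) :
    ⁅g, h⁆ ∈ centralizer (U : Set G) := by
  have h1 : ⁅(⟨g, hg⟩ : normalizer (U : Set G)), ⟨h, hh⟩⁆ ∈ U.normalizerMonoidHom.ker := by
    rw [MonoidHom.mem_ker, map_commutatorElement, commutatorElement_eq_one_iff_mul_comm]
    apply (IsCyclic.mulAutMulEquiv U).injective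
    rw [map_mul, map_mul, mul_comm]
  rw [normalizerMonoidHom_ker] at h1
  exact h1

theorem pow_mem_centralizer_of_card_le {W : Subgroup G} [Finite W] {n : ℕ} (hW : Nat.card W ≤ n)
    {t : G} (ht : t ∈ normalizer (W : Set G)) : t ^ n.factorial ∈ centralizer (W : Set G) := by
  have h1 : (⟨t, ht⟩ : normalizer (W : Set G)) ^ n.factorial ∈ W.normalizerMonoidHom.ker := by
    rw [MonoidHom.mem_ker, map_pow]
    apply (show Function.Injective (MulAut.toPerm W) from fun a b h => by
      ext x; exact congrArg (fun f : Equiv.Perm W => (f x : G)) h)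
    rw [map_pow, map_one, ← orderOf_dvd_iff_pow_eq_one]
    refine (_root_.orderOf_dvd_natCard _).trans ?_
    rw [Nat.card_perm]
    exact Nat.factorial_dvd_factorial hW
  rw [normalizerMonoidHom_ker] at h1
  exact h1

theorem two_mul_card_lt {Γ ι : Type*} [Group Γ] [Finite Γ] (s : Finset ι) (Φ : ι → Subgroup Γ)
    (Ψ : Subgroup Γ) (hle : ∀ i ∈ s, Φ i ≤ Ψ) (hd : ∀ i ∈ s, ∀ j ∈ s, i ≠ j → Φ i ⊓ Φ j = ⊥)
    (hc : ∀ i ∈ s, 3 ≤ Nat.card (Φ i)) : 2 * s.card < Nat.card Ψ := by
  classical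
  have := Fintype.ofFinite Γ
  have hcard : ∀ H : Subgroup Γ, ((Finset.univ.filter (· ∈ H)).erase 1).card + 1 = Nat.card H := by
    intro H
    rw [Finset.card_erase_add_one (by simp), Nat.card_eq_fintype_card, Fintype.card_subtype]
  have h1 : (s.biUnion fun i => (Finset.univ.filter (· ∈ Φ i)).erase 1) ⊆
      (Finset.univ.filter (· ∈ Ψ)).erase 1 := by
    intro x hx
    simp only [Finset.mem_biUnion, Finset.mem_erase, Finset.mem_filter, Finset.mem_univ,
      true_and] at hx ⊢
    obtain ⟨i, hi, h1, h2⟩ := hx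
    exact ⟨h1, hle i hi h2⟩
  have h2 := Finset.card_le_card h1
  rw [Finset.card_biUnion (by
    intro i hi j hj hij
    rw [Function.onFun, Finset.disjoint_left]
    intro x hx hx'
    simp only [Finset.mem_erase, Finset.mem_filter, Finset.mem_univ, true_and] at hx hx'
    have : x ∈ Φ i ⊓ Φ j := ⟨hx.2, hx'.2⟩
    rw [hd i hi j hj hij, mem_bot] at this
    exact hx.1 this)] at h2
  have h3 : s.card • 2 ≤ ∑ i ∈ s, ((Finset.univ.filter (· ∈ Φ i)).erase 1).card :=
    Finset.card_nsmul_le_sum _ _ _ fun i hi => by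
      have := hcard (Φ i); have := hc i hi; omega
  have := hcard Ψ
  rw [smul_eq_mul] at h3
  omega

theorem two_mul_card_lt_relIndex [Finite G] {ι : Type*} {V : Subgroup G} [IsMulCommutative V]
    (s : Finset ι) (C : ι → Subgroup G) (C₀ : Subgroup G) (hle : ∀ i ∈ s, C₀ ≤ C i)
    (hd : ∀ i ∈ s, ∀ j ∈ s, i ≠ j → V ≤ (V ⊓ C i) ⊔ (V ⊓ C j))
    (hc : ∀ i ∈ s, 3 ≤ (C i).relIndex V) : 2 * s.card < C₀.relIndex V := by
  let _ : CommGroup V := { (inferInstance : Group V) with mul_comm := mul_comm' }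
  have : NeZero (Monoid.exponent V : ℂ) := ⟨Nat.cast_ne_zero.2 Monoid.exponent_ne_zero_of_finite⟩
  have : Finite (V →* ℂˣ) := Finite.of_equiv _
    (CommGroup.monoidHom_mulEquiv_of_hasEnoughRootsOfUnity V ℂ).some.symm.toEquiv
  let e := CommGroup.subgroupOrderIsoSubgroupMonoidHom V ℂ
  have hcard : ∀ H : Subgroup G, Nat.card (e (H.subgroupOf V)).ofDual = H.relIndex V := fun H =>
    CommGroup.card_subgroupOrderIsoSubgroupMonoidHom ℂ _
  rw [← hcard]
  refine two_mul_card_lt s (fun i => (e ((C i).subgroupOf V)).ofDual) _ (fun i hi => ?_)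
    (fun i hi j hj hij => ?_) fun i hi => by rw [hcard]; exact hc i hi
  · exact e.monotone (comap_mono (hle i hi))
  · have h1 : (C i).subgroupOf V ⊔ (C j).subgroupOf V = ⊤ := by
      rw [← inf_subgroupOf_left (C i), ← inf_subgroupOf_left (C j),
        ← subgroupOf_sup inf_le_left inf_le_left, subgroupOf_eq_top]
      exact hd i hi j hj hij
    have h2 := e.map_sup ((C i).subgroupOf V) ((C j).subgroupOf V)
    rw [h1, e.map_top] at h2
    exact congrArg OrderDual.ofDual h2.symm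

theorem QS.exists_pow_not_mem [Finite G] {K : Subgroup G} (hK : H44.QS K) :
    ∃ k ∈ K, k ^ 48 ∉ centralizer (K : Set G) := by
  by_contra h
  push Not at h
  refine hK.not_solvable ?_
  have h1 : ∀ x : K ⧸ center K, x ^ 48 = 1 := fun x => by
    obtain ⟨k, rfl⟩ := QuotientGroup.mk_surjective x
    rw [← QuotientGroup.mk_pow, QuotientGroup.eq_one_iff, mem_center_iff]
    intro y
    exact Subtype.ext (h k k.2 y y.2)
  have h2 : Nat.card (K ⧸ center K) ∣ 2 ^ Nat.card (K ⧸ center K) * 3 ^ Nat.card (K ⧸ center K) := by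
    rw [← mul_pow, Nat.dvd_pow_self_iff Nat.card_pos.ne' (by norm_num)]
    intro q hq
    have hq1 := Nat.prime_of_mem_primeFactors hq
    have : Fact q.Prime := ⟨hq1⟩
    obtain ⟨x, hx⟩ := exists_prime_orderOf_dvd_card' q (Nat.dvd_of_mem_primeFactors hq)
    have h3 : q ∣ 6 ^ 4 := (hx ▸ orderOf_dvd_of_pow_eq_one (h1 x)).trans (by norm_num)
    exact Nat.mem_primeFactors.2 ⟨hq1, hq1.dvd_of_dvd_pow h3, by norm_num⟩
  have := H5.isSolvable_of_card_dvd_prime_pow_mul Nat.prime_two Nat.prime_three h2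
  have : Group.IsSolvable (center K) := Group.isSolvable_of_comm fun a b => mul_comm' a b
  exact Group.isSolvable_of_ker_le_range (center K).subtype (QuotientGroup.mk' (center K))
    (by simp)

end Cfsg.Agent.H73
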